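import Groth.Agent.GeomField.GlobalFunctions
import Groth.Agent.PnCoh.Chow.Proper
import Groth.Prelude.Def_Neron
import Mathlib.RingTheory.DedekindDomain.Basic

/-!
# Global functions of a proper integral scheme with geometrically integral generic fibre
-/

set_option autoImplicit false

universe u

open CategoryTheory CategoryTheory.Limits AlgebraicGeometry

namespace Groth.Agent.GlobalR

attribute [local instance] GeomField.globalAlgebra

theorem res_injective {X Y : Scheme.{u}} [AlgebraicGeometry.IsIntegral X] (g : Y ⟶ X) [IsDominant g] :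
    Function.Injective g.appTop := by
  rw [injective_iff_map_eq_zero]
  intro s hs
  refine (basicOpen_eq_bot_iff s).1 ?_
  by_contra hne
  obtain ⟨x, hx⟩ : ((X.basicOpen s : X.Opens) : Set X).Nonempty :=
    Set.nonempty_iff_ne_empty.2 fun h => hne (TopologicalSpace.Opens.ext h)
  obtain ⟨_, hy, y, rfl⟩ := g.denseRange.inter_open_nonempty _ (X.basicOpen s).isOpen ⟨x, hx⟩
  have h1 : y ∈ g ⁻¹ᵁ X.basicOpen s := hy
  rw [Scheme.preimage_basicOpen_top, hs, Scheme.basicOpen_zero] at h1
  exact h1

theorem bijective_toGlobal {R : Type u} [CommRing R] [IsDomain R] [IsIntegrallyClosed R] {X : Scheme.{u}}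
    [AlgebraicGeometry.IsIntegral X] (f : X ⟶ Spec (CommRingCat.of R)) [IsProper f] [Flat f]
    [GeometricallyIrreducible ((Neron.genericFibre R).obj (Over.mk f)).hom]
    [GeometricallyReduced ((Neron.genericFibre R).obj (Over.mk f)).hom] :
    Function.Bijective (Coh.toGlobal f) := by
  let j := Neron.genPt R
  let p := pullback.snd f j
  let q := pullback.fst f j
  haveI : GeometricallyIrreducible p := ‹GeometricallyIrreducible ((Neron.genericFibre R).obj (Over.mk f)).hom›
  haveI : GeometricallyReduced p := ‹GeometricallyReduced ((Neron.genericFibre R).obj (Over.mk f)).hom›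
  haveI : IsProper p := inferInstanceAs (IsProper (pullback.snd f j))
  haveI : GeometricallyConnected p := ⟨fun L _ y P fst snd h => by
    haveI := GeometricallyIrreducible.geometrically_irreducibleSpace (f := p) y fst snd h
    infer_instance⟩
  let XK := pullback f j
  letI : XK.Over (Spec (CommRingCat.of (FractionRing R))) := ⟨p⟩
  haveI : IsProper (XK ↘ Spec (CommRingCat.of (FractionRing R))) := ‹IsProper p›
  haveI : GeometricallyReduced (XK ↘ Spec (CommRingCat.of (FractionRing R))) := ‹GeometricallyReduced p›
  haveI : GeometricallyConnected (XK ↘ Spec (CommRingCat.of (FractionRing R))) := ‹GeometricallyConnected p›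
  have h1 := GeomField.finrank_globalFunctions_eq_one (FractionRing R) XK
  haveI : IsDominant q := by
    refine ⟨fun x => ?_⟩
    have hj : DenseRange j := by
      have hbot : (⟨⊥, Ideal.isPrime_bot⟩ : PrimeSpectrum R) ∈ Set.range j :=
        ⟨(⟨⊥, Ideal.isPrime_bot⟩ : PrimeSpectrum (FractionRing R)), PrimeSpectrum.ext (by
          show Ideal.comap (algebraMap R (FractionRing R)) ⊥ = ⊥
          exact Ideal.comap_bot_of_injective _ (IsFractionRing.injective R (FractionRing R)))⟩
      intro y
      exact closure_mono (Set.singleton_subset_iff.2 hbot)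
        (((PrimeSpectrum.le_iff_specializes _ y).1 bot_le).mem_closure)
    have hg : f (genericPoint X) ∈ Set.range j := by
      obtain ⟨g', hg', hfg⟩ := Flat.generalizingMap f
        (show (⟨⊥, Ideal.isPrime_bot⟩ : PrimeSpectrum R) ⤳ f (genericPoint X) from
          (PrimeSpectrum.le_iff_specializes _ _).1 bot_le)
      have : g' = genericPoint X := (hg'.antisymm (genericPoint_specializes g')).eq
      refine ⟨(⟨⊥, Ideal.isPrime_bot⟩ : PrimeSpectrum (FractionRing R)), ?_⟩
      rw [← this, hfg]
      exact PrimeSpectrum.ext (Ideal.comap_bot_of_injective _ (IsFractionRing.injective R (FractionRing R)))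
    have hgq : genericPoint X ∈ Set.range q := by
      rw [Scheme.Pullback.range_fst]; exact hg
    exact closure_mono (Set.singleton_subset_iff.2 hgq) (genericPoint_specializes x).mem_closure
  have hρ := res_injective q
  have hcomp : ∀ r, q.appTop (Coh.toGlobal f r) =
      algebraMap (FractionRing R) Γ(XK, ⊤) (algebraMap R (FractionRing R) r) := by
    intro r
    have hw : (q ≫ f).appTop = (p ≫ j).appTop := congrArg Scheme.Hom.appTop pullback.condition
    rw [Scheme.Hom.comp_appTop, Scheme.Hom.comp_appTop] at hw
    have h2 := congrArg (fun m : Γ(Spec (CommRingCat.of R), ⊤) ⟶ Γ(XK, ⊤) =>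
      m ((Scheme.ΓSpecIso (CommRingCat.of R)).inv r)) hw
    refine h2.trans ?_
    show p.appTop (j.appTop ((Scheme.ΓSpecIso (CommRingCat.of R)).inv r)) = p.appTop _
    congr 1
    exact congr($((Scheme.ΓSpecIso_inv_naturality (CommRingCat.ofHom (algebraMap R (FractionRing R)))).symm) r)
  haveI : Nonempty XK := by
    have : Surjective p := inferInstance
    obtain ⟨x, -⟩ := p.surjective (IsLocalRing.closedPoint (FractionRing R))
    exact ⟨x⟩
  haveI : Nontrivial Γ(XK, ⊤) := Module.nontrivial_of_finrank_eq_succ h1
  have hinjK : Function.Injective (algebraMap (FractionRing R) Γ(XK, ⊤)) := RingHom.injective _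
  refine ⟨fun a b hab => IsFractionRing.injective R (FractionRing R) (hinjK ?_), fun s₀ => ?_⟩
  · rw [← hcomp, ← hcomp, hab]
  · obtain ⟨s, rfl⟩ : ∃ s : Γ(X, ⊤), s = s₀ := ⟨s₀, rfl⟩
    haveI : Module.Finite (FractionRing R) Γ(XK, ⊤) := Module.finite_of_finrank_eq_succ h1
    obtain ⟨c, hc⟩ := (exists_smul_eq_of_finrank_eq_one h1 one_ne_zero (q.appTop s))
    have hint : IsIntegral R c := by
      obtain ⟨P, hP, hP0⟩ := ((RingHom.IsIntegral.trans _ _
        (RingHom.isIntegral_of_surjective _ (Scheme.ΓSpecIso (CommRingCat.of R)).symm.commRingCatIsoToRingEquiv.surjective)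
        (isIntegral_appTop_of_universallyClosed f)) :
          (f.appTop.hom.comp (Scheme.ΓSpecIso (CommRingCat.of R)).inv.hom).IsIntegral) s
      refine ⟨P, hP, hinjK ?_⟩
      rw [map_zero, Polynomial.hom_eval₂]
      have h3 := congrArg q.appTop.hom hP0
      erw [map_zero, Polynomial.hom_eval₂] at h3
      rw [← Algebra.algebraMap_eq_smul_one] at hc
      rw [hc, show (algebraMap (FractionRing R) Γ(XK, ⊤)).comp (algebraMap R (FractionRing R)) =
        q.appTop.hom.comp (f.appTop.hom.comp (Scheme.ΓSpecIso (CommRingCat.of R)).inv.hom) from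
          RingHom.ext fun r => (hcomp r).symm]
      exact h3
    obtain ⟨r, rfl⟩ := (IsIntegrallyClosed.isIntegral_iff).1 hint
    refine ⟨r, hρ ?_⟩
    rw [hcomp, Algebra.algebraMap_eq_smul_one]
    exact hc

end Groth.Agent.GlobalR
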