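import Groth.Agent.NQF.FiniteNormal
import Groth.Prelude.Def_ModelsG
import Mathlib.AlgebraicGeometry.Morphisms.QuasiFinite

/-!
# Fibre components under finite dominant maps to normal schemes
-/

set_option autoImplicit false

universe u

open CategoryTheory AlgebraicGeometry TopologicalSpace

namespace Groth.Agent.FiniteNormal

variable (R : Type u) [CommRing R] [IsDomain R] [IsDiscreteValuationRing R]
  (W Z : Over (Spec (CommRingCat.of R))) [AlgebraicGeometry.IsIntegral W.left] [AlgebraicGeometry.IsIntegral Z.left]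
  (ψ : W ⟶ Z) [IsFinite ψ.left] [Surjective ψ.left]

omit [AlgebraicGeometry.IsIntegral W.left] [AlgebraicGeometry.IsIntegral Z.left] in
theorem isClosed_of_mem_fibreComponents {Δ : Set Z.left} (hΔ : Δ ∈ Models.fibreComponents R Z) : IsClosed Δ := by
  have h := hΔ.2 ⟨hΔ.1.1.closure, closure_minimal hΔ.1.2 (Models.isClosed_specialFibreSet R Z)⟩ subset_closure
  exact (Set.Subset.antisymm h subset_closure) ▸ isClosed_closure

theorem fibreComponents_finite (X : Over (Spec (CommRingCat.of R))) [IsLocallyNoetherian X.left] [CompactSpace X.left] :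
    (Models.fibreComponents R X).Finite := by
  haveI : IsNoetherian X.left := {}
  let S := Models.specialFibreSet R X
  haveI : NoetherianSpace ↥S := inferInstance
  refine ((NoetherianSpace.finite_irreducibleComponents (α := ↥S)).image fun C => Subtype.val '' C).subset ?_
  intro C hC
  have hCc := isClosed_of_mem_fibreComponents R X hC
  refine ⟨Subtype.val ⁻¹' C, ⟨?_, fun D hD hle => ?_⟩, Set.Subset.antisymm (Set.image_preimage_subset _ _) fun c hc => ⟨⟨c, hC.1.2 hc⟩, hc, rfl⟩⟩
  · refine ⟨⟨⟨_, hC.1.2 hC.1.1.1.some_mem⟩, hC.1.1.1.some_mem⟩, ?_⟩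
    rintro u v hu hv ⟨a, haC, hau⟩ ⟨b, hbC, hbv⟩
    obtain ⟨u', hu', rfl⟩ := isOpen_induced_iff.1 hu
    obtain ⟨v', hv', rfl⟩ := isOpen_induced_iff.1 hv
    obtain ⟨c, hcC, hc⟩ := hC.1.1.2 u' v' hu' hv' ⟨a, haC, hau⟩ ⟨b, hbC, hbv⟩
    exact ⟨⟨c, hC.1.2 hcC⟩, hcC, hc⟩
  · have h1 : IsIrreducible (Subtype.val '' D) := hD.image _ continuous_subtype_val.continuousOn
    have h2 := hC.2 ⟨h1, Subtype.coe_image_subset _ _⟩ (fun c hc => ⟨⟨c, hC.1.2 hc⟩, hle hc, rfl⟩)
    exact fun d hd => h2 ⟨d, hd, rfl⟩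

theorem exists_component (hZ : Pi1.IsNormalScheme Z.left) (w : W.left) {Δ : Set Z.left}
    (hΔ : Δ ∈ Models.fibreComponents R Z) (hwΔ : ψ.left.base w ∈ Δ) :
    ∃ Γ ∈ Models.fibreComponents R W, w ∈ Γ ∧ ψ.left.base '' Γ = Δ := by
  have hΔc := isClosed_of_mem_fibreComponents R Z hΔ
  have hg := hΔ.1.1.isGenericPoint_genericPoint hΔc
  set δ := hΔ.1.1.genericPoint
  obtain ⟨γ, hγw, hγ⟩ := goingDown ψ.left hZ (hg.specializes hwΔ)
  have hw : ∀ v, W.hom.base v = Z.hom.base (ψ.left.base v) := fun v => by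
    show W.hom v = Z.hom (ψ.left v)
    rw [← Scheme.Hom.comp_apply, Over.w ψ]
  have himg : ψ.left.base '' closure {γ} = Δ := by
    refine Set.Subset.antisymm ?_ ?_
    · refine (image_closure_subset_closure_image ψ.left.continuous).trans ?_
      rw [Set.image_singleton, hγ, hg.def]
    · rw [← hg.def, ← hγ]
      refine closure_minimal (Set.singleton_subset_iff.2 ⟨γ, subset_closure rfl, rfl⟩) ?_
      exact ψ.left.isClosedMap _ isClosed_closure
  have hsub : closure {γ} ⊆ Models.specialFibreSet R W := by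
    intro v hv
    show W.hom.base v = _
    rw [hw]
    exact hΔ.1.2 (himg ▸ Set.mem_image_of_mem _ hv)
  refine ⟨closure {γ}, ⟨⟨isIrreducible_singleton.closure, hsub⟩, fun S hS hle => ?_⟩,
    hγw.mem_closure, himg⟩
  have hcl : closure S ⊆ Models.specialFibreSet R W :=
    closure_minimal hS.2 (Models.isClosed_specialFibreSet R W)
  have hgS := hS.1.closure.isGenericPoint_genericPoint isClosed_closure
  set γ' := hS.1.closure.genericPoint
  have h1 : γ' ⤳ γ := hgS.specializes (subset_closure (hle (subset_closure rfl)))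
  have h2 : closure {ψ.left.base γ'} ⊆ Models.specialFibreSet R Z := by
    refine closure_minimal (Set.singleton_subset_iff.2 ?_) (Models.isClosed_specialFibreSet R Z)
    show Z.hom.base _ = _
    rw [← hw]
    exact hcl hgS.mem
  have h3 : Δ ⊆ closure {ψ.left.base γ'} := by
    rw [← hg.def]
    refine closure_minimal (Set.singleton_subset_iff.2 ?_) isClosed_closure
    rw [← hγ]
    exact (h1.map ψ.left.continuous).mem_closure
  have h4 := hΔ.2 ⟨isIrreducible_singleton.closure, h2⟩ h3
  have h5 : ψ.left.base γ' = δ := by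
    have h6 : δ ⤳ ψ.left.base γ' := hg.specializes (h4 (subset_closure rfl))
    rw [← hγ] at h6 ⊢
    exact ((h1.map ψ.left.continuous).antisymm h6).eq
  have h7 : γ' = γ := by
    haveI : DiscreteTopology ↥(ψ.left.base ⁻¹' {δ}) :=
      isDiscrete_iff_discreteTopology.1 (ψ.left.isDiscrete_preimage_singleton δ)
    have h8 : (⟨γ', h5⟩ : ↥(ψ.left.base ⁻¹' {δ})) ⤳ ⟨γ, hγ⟩ :=
      (Topology.IsInducing.subtypeVal.specializes_iff).1 h1
    exact congrArg Subtype.val h8.eq
  intro v hv
  rw [← h7, hgS.def]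
  exact subset_closure hv

end Groth.Agent.FiniteNormal
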