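import Groth.Agent.NQF.PushIso
import Groth.Agent.Lib.ZarConn
import Groth.Agent.GeomField.GlobalFunctions
import Groth.Agent.GrpSchLib.SmoothReduced
import Groth.Prelude.Def_Models
import Groth.Prelude.Def_Curve

/-!
# Connectedness of special fibres of proper models
-/

set_option autoImplicit false

universe u

open CategoryTheory CategoryTheory.Limits AlgebraicGeometry TopologicalSpace Opposite

namespace Groth.Agent.ModelConn

theorem isIso_app_of_appTop {R : Type u} [CommRing R] {X : Scheme.{u}} (f : X ⟶ Spec (CommRingCat.of R))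
    [QuasiCompact f] [QuasiSeparated f] (h : Function.Bijective (f.app ⊤)) (U : (Spec (CommRingCat.of R)).Opens) :
    IsIso (f.app U) := by
  haveI : CompactSpace X := QuasiCompact.compactSpace_of_compactSpace f
  haveI : QuasiSeparatedSpace X := quasiSeparatedSpace_of_quasiSeparated f
  let S := Spec (CommRingCat.of R)
  have hS : IsAffineOpen (⊤ : S.Opens) := isAffineOpen_top _
  let α : S.sheaf ⟶ (TopCat.Sheaf.pushforward _ f.base).obj X.sheaf := ⟨f.c⟩
  haveI : IsIso α := TopCat.Sheaf.isIso_iff_isIso_basis (B := fun a : Γ(S, ⊤) => S.basicOpen a)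
    (isBasis_basicOpen S) fun a => by
    show IsIso (f.app (S.basicOpen a))
    rw [ConcreteCategory.isIso_iff_bijective]
    haveI := hS.isLocalization_basicOpen a
    haveI : IsLocalization.Away (f.app ⊤ a) Γ(X, X.basicOpen (f.app ⊤ a)) :=
      isLocalization_basicOpen_of_qcqs (U := f ⁻¹ᵁ ⊤) isCompact_univ isQuasiSeparated_univ (f.app ⊤ a)
    have hres : ∀ b, f.app (S.basicOpen a) (algebraMap Γ(S, ⊤) Γ(S, S.basicOpen a) b) =
        X.presheaf.map (eqToHom (Scheme.preimage_basicOpen f a)).op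
          (algebraMap Γ(X, f ⁻¹ᵁ ⊤) Γ(X, X.basicOpen (f.app ⊤ a)) (f.app ⊤ b)) := by
      intro b
      simp only [RingHom.algebraMap_toAlgebra]
      erw [← ConcreteCategory.comp_apply, f.naturality, ← ConcreteCategory.comp_apply, ← ConcreteCategory.comp_apply]
      congr 1
      rw [← Functor.map_comp]
      rfl
    have hb := ConcreteCategory.bijective_of_isIso (X.presheaf.map (eqToHom (Scheme.preimage_basicOpen f a)).op)
    constructor
    · intro x y hxy
      obtain ⟨⟨x₁, ⟨_, n, rfl⟩⟩, hx⟩ := IsLocalization.surj (Submonoid.powers a) x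
      obtain ⟨⟨y₁, ⟨_, m, rfl⟩⟩, hy⟩ := IsLocalization.surj (Submonoid.powers a) y
      simp only at hx hy
      have h1 : algebraMap Γ(S, ⊤) Γ(S, S.basicOpen a) (x₁ * a ^ m) = x * algebraMap Γ(S, ⊤) Γ(S, S.basicOpen a) (a ^ n * a ^ m) := by
        rw [map_mul, ← hx, mul_assoc, ← map_mul]
      have h2 : algebraMap Γ(S, ⊤) Γ(S, S.basicOpen a) (y₁ * a ^ n) = y * algebraMap Γ(S, ⊤) Γ(S, S.basicOpen a) (a ^ n * a ^ m) := by
        rw [map_mul, ← hy, mul_assoc, ← map_mul, mul_comm (a ^ m)]
      have h3 := congrArg (f.app (S.basicOpen a)) h1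
      rw [map_mul _ x, hxy, ← map_mul, ← h2, hres, hres] at h3
      obtain ⟨⟨_, k, rfl⟩, hk⟩ := (IsLocalization.eq_iff_exists (Submonoid.powers (f.app ⊤ a)) _).1 (hb.1 h3)
      simp only [← map_pow, ← map_mul] at hk
      have h4 := congrArg (algebraMap Γ(S, ⊤) Γ(S, S.basicOpen a)) (h.1 hk)
      rw [map_mul, map_mul (algebraMap Γ(S, ⊤) Γ(S, S.basicOpen a)) (a ^ k)] at h4
      have hu : ∀ e : ℕ, IsUnit (algebraMap Γ(S, ⊤) Γ(S, S.basicOpen a) (a ^ e)) := fun e =>
        IsLocalization.map_units _ (⟨_, e, rfl⟩ : Submonoid.powers a)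
      have h5 := (hu k).mul_left_cancel h4
      rw [h1, h2, map_mul] at h5
      exact ((hu n).mul (hu m)).mul_right_cancel h5
    · intro z
      obtain ⟨z', rfl⟩ := hb.2 z
      obtain ⟨⟨b, ⟨_, n, rfl⟩⟩, hn⟩ := IsLocalization.surj (Submonoid.powers (f.app ⊤ a)) z'
      obtain ⟨b₁, rfl⟩ := h.2 b
      have hu : IsUnit (algebraMap Γ(S, ⊤) Γ(S, S.basicOpen a) (a ^ n)) :=
        IsLocalization.map_units _ (⟨_, n, rfl⟩ : Submonoid.powers a)
      refine ⟨algebraMap Γ(S, ⊤) Γ(S, S.basicOpen a) b₁ * ↑hu.unit⁻¹,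
        (hu.map (f.app (S.basicOpen a)).hom).mul_right_cancel ?_⟩
      show f.app (S.basicOpen a) (algebraMap Γ(S, ⊤) Γ(S, S.basicOpen a) b₁ * (↑hu.unit⁻¹ : Γ(S, S.basicOpen a))) *
        f.app (S.basicOpen a) (algebraMap Γ(S, ⊤) Γ(S, S.basicOpen a) (a ^ n)) = _ * f.app (S.basicOpen a) (algebraMap Γ(S, ⊤) Γ(S, S.basicOpen a) (a ^ n))
      rw [← map_mul, mul_assoc, IsUnit.val_inv_mul, mul_one, hres, hres, ← map_mul]
      refine congrArg _ ?_
      rw [map_pow]
      exact hn.symm
  haveI hc : IsIso f.c := inferInstanceAs (IsIso ((TopCat.Sheaf.forget _ _).map α))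
  exact inferInstanceAs (IsIso (f.c.app (op U)))

variable {R : Type u} [CommRing R] [IsDomain R] [IsDiscreteValuationRing R]

theorem bijective_appTop {X C : Scheme.{u}} (p : X ⟶ Spec (CommRingCat.of R)) [Flat p] [IsProper p]
    (f : C ⟶ Spec (CommRingCat.of (FractionRing R))) (g : C ⟶ X) (sq : IsPullback g f p (Neron.genPt R))
    (hf : Function.Bijective f.appTop) : Function.Bijective p.appTop := by
  obtain ⟨t, ht⟩ := IsDiscreteValuationRing.exists_irreducible R
  obtain ⟨hoi, hr⟩ := PushIso.isOpenImmersion_genPt ht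
  haveI := hoi
  haveI : CompactSpace X := QuasiCompact.compactSpace_of_compactSpace p
  haveI : QuasiSeparatedSpace X := quasiSeparatedSpace_of_quasiSeparated p
  haveI hg : IsOpenImmersion g := MorphismProperty.of_isPullback (P := @IsOpenImmersion) sq.flip hoi
  let e : R ≃+* Γ(Spec (CommRingCat.of R), ⊤) := (Scheme.ΓSpecIso (CommRingCat.of R)).symm.commRingCatIsoToRingEquiv
  let eK : FractionRing R ≃+* Γ(Spec (CommRingCat.of (FractionRing R)), ⊤) :=
    (Scheme.ΓSpecIso (CommRingCat.of (FractionRing R))).symm.commRingCatIsoToRingEquiv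
  let ι : R →+* Γ(X, ⊤) := p.appTop.hom.comp e.toRingHom
  let κ : FractionRing R →+* Γ(C, ⊤) := f.appTop.hom.comp eK.toRingHom
  have hκ : Function.Bijective κ := hf.comp eK.bijective
  have hcomp : ∀ r, g.appTop (ι r) = κ (algebraMap R (FractionRing R) r) := by
    intro r
    have hw : (g ≫ p).appTop = (f ≫ Neron.genPt R).appTop := congrArg Scheme.Hom.appTop sq.w
    rw [Scheme.Hom.comp_appTop, Scheme.Hom.comp_appTop] at hw
    have h2 := congrArg (fun m : Γ(Spec (CommRingCat.of R), ⊤) ⟶ Γ(C, ⊤) =>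
      m ((Scheme.ΓSpecIso (CommRingCat.of R)).inv r)) hw
    refine h2.trans ?_
    show f.appTop ((Neron.genPt R).appTop ((Scheme.ΓSpecIso (CommRingCat.of R)).inv r)) = f.appTop _
    congr 1
    exact congr($((Scheme.ΓSpecIso_inv_naturality (CommRingCat.ofHom (algebraMap R (FractionRing R)))).symm) r)
  have hrange : Set.range g = ((X.basicOpen (ι t) : X.Opens) : Set X) := by
    have h1 : X.basicOpen (ι t) = p ⁻¹ᵁ (Spec (CommRingCat.of R)).basicOpen (e t) :=
      (Scheme.preimage_basicOpen_top p _).symm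
    rw [h1, ← sq.isoPullback_hom_fst, Scheme.Hom.comp_base, TopCat.coe_comp, Set.range_comp,
      Set.range_eq_univ.mpr sq.isoPullback.hom.surjective, Set.image_univ, Scheme.Pullback.range_fst, hr]
    show p ⁻¹' _ = _
    rw [Scheme.Hom.coe_preimage]
    congr 1
    have h2 : (Spec (CommRingCat.of R)).basicOpen (e t) = PrimeSpectrum.basicOpen t := by
      rw [basicOpen_eq_of_affine']
      congr 1
      exact e.symm_apply_apply t
    rw [h2]
    rfl
  have hρ : Function.Injective g.appTop := by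
    rw [injective_iff_map_eq_zero]
    intro s hs
    haveI := isLocalization_basicOpen_of_qcqs (X := X) isCompact_univ isQuasiSeparated_univ (ι t)
    have hle : X.basicOpen (ι t) ≤ g.opensRange := fun x hx => hrange.ge hx
    have h3 : algebraMap Γ(X, ⊤) Γ(X, X.basicOpen (ι t)) s = 0 := by
      haveI : IsIso (g.app (X.basicOpen (ι t))) := g.isIso_app _ hle
      refine (ConcreteCategory.bijective_of_isIso (g.app (X.basicOpen (ι t)))).1 ?_
      rw [map_zero]
      simp only [RingHom.algebraMap_toAlgebra]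
      erw [← ConcreteCategory.comp_apply, g.naturality, ConcreteCategory.comp_apply]
      show _ = (0 : Γ(C, g ⁻¹ᵁ X.basicOpen (ι t)))
      erw [show g.app ⊤ s = 0 from hs, map_zero]
    obtain ⟨⟨_, n, rfl⟩, hn⟩ := (IsLocalization.map_eq_zero_iff (Submonoid.powers (ι t)) _ s).1 h3
    have hreg := PushIso.regular_str p ⊤ ht.ne_zero
    have hstr : PushIso.str p ⊤ t = ι t := by
      show (p.appLE ⊤ ⊤ le_top) _ = p.appTop _
      rw [show p.appLE ⊤ ⊤ le_top = p.appTop from p.appLE_eq_app]
      rfl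
    refine hreg.pow n ?_
    show PushIso.str p ⊤ t ^ n * s = PushIso.str p ⊤ t ^ n * 0
    rw [hstr, mul_zero]
    exact hn
  suffices hb : Function.Bijective ι by
    have : ⇑p.appTop.hom = ⇑ι ∘ ⇑e.symm := funext fun x => by simp [ι]
    show Function.Bijective ⇑p.appTop.hom
    rw [this]
    exact hb.comp e.symm.bijective
  refine ⟨fun a b hab => IsFractionRing.injective R (FractionRing R) (hκ.1 ?_), fun s => ?_⟩
  · rw [← hcomp, ← hcomp, hab]
  · obtain ⟨c, hc⟩ := hκ.2 (g.appTop s)
    have hι : ι.IsIntegral := RingHom.IsIntegral.trans _ _ (RingHom.isIntegral_of_surjective _ e.surjective)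
      (isIntegral_appTop_of_universallyClosed p)
    obtain ⟨P, hP, hP0⟩ := hι s
    have hint : IsIntegral R c := by
      refine ⟨P, hP, hκ.1 ?_⟩
      rw [map_zero, Polynomial.hom_eval₂, hc, show κ.comp (algebraMap R (FractionRing R)) = g.appTop.hom.comp ι from
        RingHom.ext fun r => (hcomp r).symm]
      exact (Polynomial.hom_eval₂ P ι g.appTop.hom s).symm.trans ((congrArg g.appTop.hom hP0).trans (map_zero _))
    obtain ⟨r, rfl⟩ := IsIntegrallyClosed.isIntegral_iff.1 hint
    exact ⟨r, hρ ((hcomp r).trans hc)⟩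

attribute [local instance] GeomField.globalAlgebra

theorem bijective_generic {k : Type u} [Field k] {C : Scheme.{u}} (f : C ⟶ Spec (CommRingCat.of k))
    [IsProper f] [Smooth f] [GeometricallyConnected f] : Function.Bijective f.appTop := by
  letI : C.Over (Spec (CommRingCat.of k)) := ⟨f⟩
  haveI : IsProper (C ↘ Spec (CommRingCat.of k)) := ‹IsProper f›
  haveI : GeometricallyReduced (C ↘ Spec (CommRingCat.of k)) := ⟨fun L _ y P fst snd h => by
    haveI : Smooth snd := MorphismProperty.of_isPullback h ‹Smooth f›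
    exact GrpSchLib.isReduced_of_smooth_field snd⟩
  haveI : GeometricallyConnected (C ↘ Spec (CommRingCat.of k)) := ‹GeometricallyConnected f›
  have h1 := GeomField.finrank_globalFunctions_eq_one k C
  haveI : Nontrivial Γ(C, ⊤) := Module.nontrivial_of_finrank_eq_succ h1
  have hb : Function.Bijective (algebraMap k Γ(C, ⊤)) := by
    refine ⟨RingHom.injective _, fun s => ?_⟩
    obtain ⟨c, hc⟩ := exists_smul_eq_of_finrank_eq_one h1 one_ne_zero s
    exact ⟨c, by rw [Algebra.algebraMap_eq_smul_one]; exact hc⟩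
  let eK : k ≃+* Γ(Spec (CommRingCat.of k), ⊤) := (Scheme.ΓSpecIso (CommRingCat.of k)).symm.commRingCatIsoToRingEquiv
  have hb' : Function.Bijective (f.appTop.hom ∘ eK) := hb
  exact (Function.Bijective.of_comp_iff _ eK.bijective).1 hb'

theorem geometricallyConnected_model {X C : Scheme.{u}} (p : X ⟶ Spec (CommRingCat.of R))
    (f : C ⟶ Spec (CommRingCat.of (FractionRing R))) (hX : Models.IsRegularProperModel R X p C f)
    (hf : Function.Bijective f.appTop) : GeometricallyConnected p := by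
  obtain ⟨⟨hfl, -, -, g, sq⟩, hp, -⟩ := hX
  haveI := hfl
  haveI := hp
  exact ZarConn.geometricallyConnected p (isIso_app_of_appTop p (bijective_appTop p f g sq hf))

end Groth.Agent.ModelConn
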