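import Groth.Agent.ConsPropLib.QFFactor
import Mathlib.AlgebraicGeometry.Morphisms.Affine
import Mathlib.RingTheory.DedekindDomain.Basic
import Mathlib.RingTheory.KrullDimension.Basic
import Mathlib.RingTheory.Ideal.MinimalPrime.Noetherian
import Mathlib.RingTheory.Spectrum.Prime.Topology

/-!
# Opens of one-dimensional Noetherian affine schemes are affine
-/

set_option autoImplicit false

universe u

open CategoryTheory AlgebraicGeometry TopologicalSpace

namespace Groth.Agent.NQF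

theorem isMaximal_of_notMem_minimalPrimes {C : Type u} [CommRing C] [Ring.KrullDimLE 1 C] {q : Ideal C}
    [hq : q.IsPrime] (h : q ∉ minimalPrimes C) : q.IsMaximal :=
  (Ring.krullDimLE_one_iff.1 ‹_› q hq).resolve_left h

theorem exists_cutting {C : Type u} [CommRing C] [IsNoetherianRing C] [Ring.KrullDimLE 1 C]
    (I : Ideal C) :
    ∃ f ∈ I, {q : PrimeSpectrum C | f ∈ q.asIdeal ∧ ¬ I ≤ q.asIdeal}.Finite ∧
      ∀ q : PrimeSpectrum C, f ∈ q.asIdeal → ¬ I ≤ q.asIdeal → IsClosed ({q} : Set (PrimeSpectrum C)) := by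
  classical
  let M : Finset (Ideal C) :=
    ((minimalPrimes.finite_of_isNoetherianRing C).toFinset).filter fun p => ¬ I ≤ p
  obtain ⟨f, hfI, hf⟩ : ∃ f ∈ I, ∀ p ∈ M, f ∉ p := by
    by_contra hcon
    push Not at hcon
    have hsub : (I : Set C) ⊆ ⋃ p ∈ (M : Set (Ideal C)), (p : Set C) := fun x hx => by
      obtain ⟨p, hp, hxp⟩ := hcon x hx
      exact Set.mem_biUnion hp hxp
    obtain ⟨p, hp, hle⟩ := (Ideal.subset_union_prime (f := fun p : Ideal C => p) ⊥ ⊥ (fun p hp _ _ =>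
      ((Set.Finite.mem_toFinset _).1 (Finset.mem_filter.1 hp).1).1.1)).1 hsub
    exact (Finset.mem_filter.1 hp).2 hle
  have hmax : ∀ q : PrimeSpectrum C, f ∈ q.asIdeal → ¬ I ≤ q.asIdeal →
      q.asIdeal ∉ minimalPrimes C := fun q hfq hIq hmin =>
    hf _ (Finset.mem_filter.2 ⟨(Set.Finite.mem_toFinset _).2 hmin, hIq⟩) hfq
  refine ⟨f, hfI, ?_, fun q hfq hIq => ?_⟩
  · refine Set.Finite.of_finite_image (f := PrimeSpectrum.asIdeal) ?_ fun a _ b _ h => PrimeSpectrum.ext h
    refine (Ideal.finite_minimalPrimes_of_isNoetherianRing C (Ideal.span {f})).subset ?_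
    rintro _ ⟨q, ⟨hfq, hIq⟩, rfl⟩
    refine ⟨⟨q.isPrime, (Ideal.span_singleton_le_iff_mem _).2 hfq⟩, fun r hr hrq => ?_⟩
    haveI := hr.1
    have hfr : f ∈ r := hr.2 (Ideal.subset_span rfl)
    have := isMaximal_of_notMem_minimalPrimes (hmax ⟨r, hr.1⟩ hfr fun h => hIq (h.trans hrq))
    exact (this.eq_of_le q.isPrime.ne_top hrq).ge
  · rw [PrimeSpectrum.isClosed_singleton_iff_isMaximal]
    exact isMaximal_of_notMem_minimalPrimes (hmax q hfq hIq)

theorem isAffineOpen_preimage_ι {X : Scheme.{u}} (U D : X.Opens) (h : IsAffineOpen (U ⊓ D)) :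
    IsAffineOpen (U.ι ⁻¹ᵁ D) := by
  rw [← Scheme.Hom.isAffineOpen_iff_of_isOpenImmersion U.ι, Scheme.Hom.image_preimage_eq_opensRange_inf,
    Scheme.Opens.opensRange_ι]
  exact h

theorem isAffineHom_ι_spec {C : CommRingCat.{u}} [IsNoetherianRing C] [Ring.KrullDimLE 1 C] (U : (Spec C).Opens) :
    IsAffineHom U.ι := by
  classical
  obtain ⟨I, hI⟩ : ∃ I : Ideal C, ∀ q : PrimeSpectrum C, q ∈ U ↔ ¬ I ≤ q.asIdeal := by
    obtain ⟨I, hI⟩ := (PrimeSpectrum.isClosed_iff_zeroLocus_ideal _).1 U.isOpen.isClosed_compl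
    refine ⟨I, fun q => ?_⟩
    have := Set.ext_iff.1 hI q
    exact ⟨fun h h' => (this.2 h') h, fun h => not_not.1 fun h' => h (this.1 h')⟩
  obtain ⟨f, hfI, hfin, hcl⟩ := exists_cutting I
  let W := {q : PrimeSpectrum C | f ∈ q.asIdeal ∧ ¬ I ≤ q.asIdeal}
  have hWc : IsClosed W := by
    rw [← Set.biUnion_of_singleton W]
    exact hfin.isClosed_biUnion fun q hq => hcl q hq.1 hq.2
  refine isAffineHom_of_forall_exists_isAffineOpen _ fun x => ?_
  by_cases hx : x ∈ U
  · obtain ⟨_, ⟨h, rfl⟩, hxh, hhU⟩ :=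
      PrimeSpectrum.isTopologicalBasis_basic_opens.exists_subset_of_mem_open hx U.isOpen
    refine ⟨PrimeSpectrum.basicOpen h, hxh, IsAffineOpen.Spec_basicOpen h, ?_⟩
    refine isAffineOpen_preimage_ι U _ ?_
    erw [inf_eq_right.2 (show PrimeSpectrum.basicOpen h ≤ U from hhU)]
    exact IsAffineOpen.Spec_basicOpen h
  · have hxW : x ∈ Wᶜ := fun hw => hx ((hI x).2 hw.2)
    obtain ⟨_, ⟨h, rfl⟩, hxh, hhW⟩ :=
      PrimeSpectrum.isTopologicalBasis_basic_opens.exists_subset_of_mem_open hxW hWc.isOpen_compl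
    refine ⟨PrimeSpectrum.basicOpen h, hxh, IsAffineOpen.Spec_basicOpen h, ?_⟩
    have heq : U ⊓ PrimeSpectrum.basicOpen h = PrimeSpectrum.basicOpen (h * f) := by
      rw [PrimeSpectrum.basicOpen_mul]
      refine TopologicalSpace.Opens.ext (Set.ext fun q => ⟨fun hq => ⟨hq.2, fun hf => ?_⟩, fun hq => ⟨?_, hq.1⟩⟩)
      · exact hhW hq.2 ⟨hf, (hI q).1 hq.1⟩
      · exact (hI q).2 fun hle => hq.2 (hle hfI)
    refine isAffineOpen_preimage_ι U _ ?_
    erw [heq]
    exact IsAffineOpen.Spec_basicOpen (h * f)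

/-- A separated quasi-finite scheme over a one-dimensional Noetherian affine base is affine. -/
theorem isAffineHom_of_lqf {R : Type u} [CommRing R] [IsNoetherianRing R] [Ring.KrullDimLE 1 R] {N : Scheme.{u}}
    (f : N ⟶ Spec (CommRingCat.of R)) [IsSeparated f] [QuasiCompact f] [LocallyOfFiniteType f]
    [LocallyQuasiFinite f] : IsAffineHom f := by
  obtain ⟨T, i, π, hi, hπ, hfac⟩ := ConsPropLib.exists_finite_factor f
  haveI := hi
  haveI := hπ
  haveI : IsAffine T := isAffine_of_isAffineHom π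
  let C := Γ(T, ⊤)
  let π' : Spec C ⟶ Spec (CommRingCat.of R) := T.isoSpec.inv ≫ π
  obtain ⟨φ, hφ⟩ := Spec.map_surjective π'
  haveI : IsFinite (Spec.map φ) := by rw [hφ]; infer_instance
  have hfin : φ.hom.Finite := (IsFinite.SpecMap_iff φ).1 ‹_›
  letI := φ.hom.toAlgebra
  haveI : Module.Finite R C := hfin
  haveI : IsNoetherianRing C := IsNoetherianRing.of_finite R C
  haveI : Ring.KrullDimLE 1 C := by
    rw [Ring.krullDimLE_iff]
    have hmono : StrictMono (PrimeSpectrum.comap (algebraMap R C)) := fun _ _ h =>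
      Ideal.IsIntegral.comap_lt_comap (R := R) h
    exact (Order.krullDim_le_of_strictMono _ hmono).trans (Ring.krullDimLE_iff.1 ‹Ring.KrullDimLE 1 R›)
  let j : N ⟶ Spec C := i ≫ T.isoSpec.hom
  haveI := isAffineHom_ι_spec j.opensRange
  haveI : IsAffineHom j := by
    rw [← j.isoOpensRange_hom_ι]
    infer_instance
  have hf : f = j ≫ π' := by simp [j, π', hfac]
  rw [hf]
  infer_instance

end Groth.Agent.NQF
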