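import Mathlib.AlgebraicGeometry.Morphisms.Proper
import Mathlib.AlgebraicGeometry.Morphisms.Flat
import Mathlib.AlgebraicGeometry.Morphisms.QuasiSeparated
import Mathlib.AlgebraicGeometry.Fiber
import Mathlib.AlgebraicGeometry.Morphisms.Integral
import Mathlib.RingTheory.Flat.TorsionFree
import Mathlib.RingTheory.DiscreteValuationRing.Basic
import Mathlib.RingTheory.LocalRing.ResidueField.Ideal
import Mathlib.Topology.Sheaves.SheafCondition.Sites
import Groth.Prelude.Def_Neron

/-!
# Functions on a proper modification of a flat scheme with reduced special fibre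
-/

set_option autoImplicit false

universe u

open CategoryTheory CategoryTheory.Limits AlgebraicGeometry TopologicalSpace Opposite TensorProduct

namespace Groth.Agent.PushIso

/-- Clearing denominators in a monic relation. -/
theorem bijective_core {A B : Type u} [CommRing A] [CommRing B] (φ : A →+* B) (t : A)
    (htA : IsSMulRegular A t) (htB : IsSMulRegular B (φ t))
    (hker : ∀ a, φ a = 0 → ∃ n : ℕ, t ^ n * a = 0)
    (hloc : ∀ b, ∃ (n : ℕ) (a : A), φ a = φ t ^ n * b)
    (hint : φ.IsIntegral) (hred : ∀ (a : A) (d : ℕ), t ∣ a ^ d → t ∣ a) : Function.Bijective φ := by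
  have hinj : Function.Injective φ := by
    rw [injective_iff_map_eq_zero]
    intro a ha
    obtain ⟨n, hn⟩ := hker a ha
    refine htA.pow n ?_
    show t ^ n * a = t ^ n * 0
    rw [mul_zero, hn]
  refine ⟨hinj, ?_⟩
  suffices h : ∀ (n : ℕ) (b : B) (a : A), φ a = φ t ^ n * b → ∃ a', φ a' = b by
    intro b
    obtain ⟨n, a, h'⟩ := hloc b
    exact h n b a h'
  intro n
  induction n with
  | zero => exact fun b a h => ⟨a, by simpa using h⟩
  | succ n ih =>
    intro b a h
    obtain ⟨f, hf, hfb⟩ := hint b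
    have hdvd : t ∣ a ^ f.natDegree := by
      have h1 : φ ((f.scaleRoots (t ^ (n + 1))).eval a) = 0 := by
        have h2 : (f.scaleRoots (t ^ (n + 1))).eval₂ φ (φ a) = 0 := by
          rw [h, ← map_pow]
          exact Polynomial.scaleRoots_eval₂_eq_zero φ hfb
        rwa [Polynomial.eval₂_at_apply] at h2
      have h3 : (f.scaleRoots (t ^ (n + 1))).eval a = 0 := hinj (h1.trans (map_zero φ).symm)
      rw [Polynomial.eval_eq_sum_range, Polynomial.natDegree_scaleRoots, Finset.sum_range_succ] at h3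
      rw [Polynomial.coeff_scaleRoots_natDegree, hf.leadingCoeff, one_mul] at h3
      rw [eq_neg_of_add_eq_zero_right h3, dvd_neg]
      refine Finset.dvd_sum fun i hi => Dvd.dvd.mul_right ?_ _
      rw [Polynomial.coeff_scaleRoots, ← pow_mul]
      exact (dvd_pow_self t (Nat.mul_ne_zero (Nat.succ_ne_zero n) (Nat.sub_ne_zero_of_lt (Finset.mem_range.1 hi)))).mul_left _
    obtain ⟨c, rfl⟩ := hred a _ hdvd
    refine ih b c (htB ?_)
    show φ t * φ c = φ t * (φ t ^ n * b)
    rw [← map_mul, h, pow_succ]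
    ring

variable {R : Type u} [CommRing R]

/-- The structure map on sections. -/
noncomputable def str {Z : Scheme.{u}} (f : Z ⟶ Spec (CommRingCat.of R)) (U : Z.Opens) : R →+* Γ(Z, U) :=
  ((Scheme.ΓSpecIso (CommRingCat.of R)).inv ≫ f.appLE ⊤ U le_top).hom

theorem res_str {Z : Scheme.{u}} (f : Z ⟶ Spec (CommRingCat.of R)) {U U' : Z.Opens} (h : U' ≤ U) (r : R) :
    Z.presheaf.map (homOfLE h).op (str f U r) = str f U' r := by
  have := congrArg (fun m : Γ(Spec (CommRingCat.of R), ⊤) ⟶ Γ(Z, U') =>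
    m ((Scheme.ΓSpecIso (CommRingCat.of R)).inv r))
    (f.appLE_map (U := ⊤) (V := U) (V' := U') le_top (homOfLE h).op)
  exact this

theorem app_str {Y X : Scheme.{u}} (π : Y ⟶ X) (f : X ⟶ Spec (CommRingCat.of R)) (g : Y ⟶ Spec (CommRingCat.of R))
    (w : π ≫ f = g) (V : X.Opens) (r : R) : π.app V (str f V r) = str g (π ⁻¹ᵁ V) r := by
  subst w
  have := congrArg (fun m : Γ(Spec (CommRingCat.of R), ⊤) ⟶ Γ(Y, π ⁻¹ᵁ V) =>
    m ((Scheme.ΓSpecIso (CommRingCat.of R)).inv r))
    (Scheme.Hom.appLE_comp_appLE π f ⊤ V (π ⁻¹ᵁ V) le_top le_rfl)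
  rw [← Scheme.Hom.appLE_eq_app]
  exact this

theorem str_flat {Z : Scheme.{u}} (f : Z ⟶ Spec (CommRingCat.of R)) [Flat f] {U : Z.Opens} (hU : IsAffineOpen U) :
    (str f U).Flat :=
  RingHom.Flat.comp (RingHom.Flat.of_bijective (ConcreteCategory.bijective_of_isIso (Scheme.ΓSpecIso (CommRingCat.of R)).inv))
    (f.flat_appLE (isAffineOpen_top _) hU le_top)

theorem regular_str [IsDomain R] {Z : Scheme.{u}} (f : Z ⟶ Spec (CommRingCat.of R)) [Flat f] (W : Z.Opens)
    {r : R} (hr : r ≠ 0) : IsSMulRegular Γ(Z, W) (str f W r) := by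
  intro b b' hb
  have hb : str f W r * b = str f W r * b' := hb
  rw [← sub_eq_zero]
  have hd : str f W r * (b - b') = 0 := by rw [mul_sub, hb, sub_self]
  generalize b - b' = d at hd
  refine TopCat.Presheaf.section_ext Z.sheaf W d 0 fun x hx => ?_
  obtain ⟨U, hU, hxU, hUW'⟩ := exists_isAffineOpen_mem_and_subset hx
  have hUW : U ≤ W := hUW'
  letI := (str f U).toAlgebra
  haveI : Module.Flat R Γ(Z, U) := str_flat f hU
  have h3 : Z.presheaf.map (homOfLE hUW).op d = 0 := by
    refine Module.Flat.isSMulRegular_of_isRegular (M := Γ(Z, U)) (IsRegular.of_ne_zero hr) ?_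
    show str f U r * _ = str f U r * 0
    rw [mul_zero, ← res_str f hUW r]
    have h2 := congrArg (Z.presheaf.map (homOfLE hUW).op) hd
    rw [map_mul, map_zero] at h2
    exact h2
  rw [map_zero]
  show Z.presheaf.germ W x hx d = 0
  rw [← TopCat.Presheaf.germ_res_apply Z.presheaf (homOfLE hUW) x hxU, h3, map_zero]

theorem dvd_of_dvd_pow [IsDomain R] [IsDiscreteValuationRing R] {X : Scheme.{u}} (f : X ⟶ Spec (CommRingCat.of R))
    [AlgebraicGeometry.IsReduced (f.fiber (IsLocalRing.closedPoint R))] {V : X.Opens} (hV : IsAffineOpen V)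
    {t : R} (ht : Irreducible t) (a : Γ(X, V)) (d : ℕ) (h : str f V t ∣ a ^ d) : str f V t ∣ a := by
  let φ : CommRingCat.of R ⟶ Γ(X, V) := (Scheme.ΓSpecIso (CommRingCat.of R)).inv ≫ f.appLE ⊤ V le_top
  letI := φ.hom.toAlgebra
  have hφ : hV.fromSpec ≫ f = Spec.map φ := by
    rw [Spec.map_comp, ← (isAffineOpen_top _).SpecMap_appLE_fromSpec f hV le_top, IsAffineOpen.fromSpec_top,
      Scheme.isoSpec_Spec_inv]
  let P : PrimeSpectrum R := IsLocalRing.closedPoint R
  let g := Spec.map (CommRingCat.ofHom (algebraMap R Γ(X, V)))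
  let Φ : g.fiber P ⟶ f.fiber P :=
    pullback.map g ((Spec (CommRingCat.of R)).fromSpecResidueField P) f ((Spec (CommRingCat.of R)).fromSpecResidueField P)
      hV.fromSpec (𝟙 _) (𝟙 _) (by rw [Category.comp_id]; exact hφ.symm) (by simp)
  haveI : IsOpenImmersion Φ := Scheme.pullback_map_isOpenImmersion _ _ _ _ _ _ _ _ _
  haveI : AlgebraicGeometry.IsReduced (g.fiber P) := @isReduced_of_isOpenImmersion _ _ Φ _ ‹_›
  haveI : AlgebraicGeometry.IsReduced (Spec (CommRingCat.of (P.asIdeal.Fiber Γ(X, V)))) := by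
    haveI : IsOpenImmersion (Spec.fiberToSpecResidueFieldIso R Γ(X, V) P).inv.left := inferInstance
    exact @isReduced_of_isOpenImmersion _ _ (Spec.fiberToSpecResidueFieldIso R Γ(X, V) P).inv.left _
      (show AlgebraicGeometry.IsReduced (g.fiber P) from inferInstance)
  have hF : _root_.IsReduced (P.asIdeal.Fiber Γ(X, V)) :=
    (affine_isReduced_iff (CommRingCat.of (P.asIdeal.Fiber Γ(X, V)))).mp inferInstance
  let m := IsLocalRing.maximalIdeal R
  have hm : m = Ideal.span {t} := ht.maximalIdeal_eq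
  let e := RingEquiv.ofBijective (algebraMap (R ⧸ m) m.ResidueField) m.bijective_algebraMap_quotient_residueField
  let ψ : m.ResidueField →+* Γ(X, V) ⧸ m.map (algebraMap R Γ(X, V)) :=
    (Ideal.quotientMap _ (algebraMap R Γ(X, V)) Ideal.le_comap_map).comp e.symm.toRingHom
  let ψ' : m.ResidueField →ₐ[R] Γ(X, V) ⧸ m.map (algebraMap R Γ(X, V)) :=
    { toRingHom := ψ, commutes' := fun r => by
        show ψ (algebraMap R m.ResidueField r) = _
        have : e.symm (algebraMap R m.ResidueField r) = Ideal.Quotient.mk m r := by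
          rw [RingEquiv.symm_apply_eq]; rfl
        show Ideal.quotientMap (m.map (algebraMap R Γ(X, V))) (algebraMap R Γ(X, V)) Ideal.le_comap_map (e.symm (algebraMap R m.ResidueField r)) = _
        rw [this]; rfl }
  let Ψ : m.ResidueField ⊗[R] Γ(X, V) →ₐ[R] Γ(X, V) ⧸ m.map (algebraMap R Γ(X, V)) :=
    Algebra.TensorProduct.lift ψ' (Ideal.Quotient.mkₐ R _) (fun _ _ => mul_comm _ _)
  obtain ⟨c, hc⟩ := h
  have hz : ((1 : m.ResidueField) ⊗ₜ[R] a) ^ d = 0 := by
    rw [Algebra.TensorProduct.tmul_pow, one_pow, hc]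
    have : str f V t * c = t • c := (Algebra.smul_def t c).symm
    rw [this, TensorProduct.tmul_smul, TensorProduct.smul_tmul',
      ← Algebra.algebraMap_eq_smul_one, (Ideal.algebraMap_residueField_eq_zero).2 (hm ▸ Ideal.mem_span_singleton_self t),
      TensorProduct.zero_tmul]
  have h0 : (1 : m.ResidueField) ⊗ₜ[R] a = 0 := @IsNilpotent.eq_zero _ _ _ _ hF ⟨d, hz⟩
  have h1 := congrArg Ψ h0
  rw [map_zero] at h1
  erw [Algebra.TensorProduct.lift_tmul, map_one, one_mul] at h1
  have h2 := Ideal.Quotient.eq_zero_iff_mem.mp h1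
  rw [hm, Ideal.map_span, Set.image_singleton, Ideal.mem_span_singleton] at h2
  exact h2

theorem isOpenImmersion_genPt [IsDomain R] [IsDiscreteValuationRing R] {t : R} (ht : Irreducible t) :
    IsOpenImmersion (Neron.genPt R) ∧
      Set.range (Neron.genPt R) = (PrimeSpectrum.basicOpen t : Set (PrimeSpectrum R)) := by
  haveI : IsLocalization.Away t (FractionRing R) := by
    refine ⟨⟨?_, ?_, ?_⟩⟩
    · rintro ⟨_, n, rfl⟩
      exact IsUnit.mk0 _ ((map_ne_zero_iff _ (IsFractionRing.injective R (FractionRing R))).2 (pow_ne_zero n ht.ne_zero))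
    · intro z
      obtain ⟨a, b, hb, rfl⟩ := IsFractionRing.div_surjective (A := R) z
      obtain ⟨n, u', hu⟩ := IsDiscreteValuationRing.eq_unit_mul_pow_irreducible (nonZeroDivisors.ne_zero hb) ht
      refine ⟨⟨a * ↑u'⁻¹, ⟨t ^ n, n, rfl⟩⟩, ?_⟩
      have hb0 : algebraMap R (FractionRing R) b ≠ 0 := IsFractionRing.to_map_ne_zero_of_mem_nonZeroDivisors hb
      rw [div_mul_eq_mul_div, div_eq_iff hb0, ← map_mul, ← map_mul, hu]
      congr 1
      rw [mul_assoc, ← mul_assoc (↑u'⁻¹ : R), Units.inv_mul, one_mul]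
    · intro x y h
      exact ⟨1, by rw [IsFractionRing.injective R (FractionRing R) h]⟩
  exact ⟨IsOpenImmersion.of_isLocalization t,
    PrimeSpectrum.localization_away_comap_range (FractionRing R) t⟩

variable [IsDomain R] [IsDiscreteValuationRing R] (X Y : Over (Spec (CommRingCat.of R))) [Flat X.hom] [Flat Y.hom]
  (π : Y ⟶ X)

theorem isIso_app_of_le (hgen : IsIso ((Neron.genericFibre R).map π)) {t : R} (ht : Irreducible t) {U : X.left.Opens}
    (hU : U ≤ X.hom ⁻¹ᵁ (PrimeSpectrum.basicOpen t)) : IsIso (π.left.app U) := by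
  obtain ⟨hoi, hr⟩ := isOpenImmersion_genPt ht
  haveI := hoi
  let q := pullback.fst X.hom (Neron.genPt R)
  haveI : IsOpenImmersion q := inferInstance
  have hsq : IsPullback (pullback.fst Y.hom (Neron.genPt R)) ((Neron.genericFibre R).map π).left π.left q := by
    refine IsPullback.of_bot ?_ ?_ (IsPullback.of_hasPullback X.hom (Neron.genPt R))
    · have h1 : ((Neron.genericFibre R).map π).left ≫ pullback.snd X.hom (Neron.genPt R) = pullback.snd Y.hom (Neron.genPt R) :=
        Over.w ((Neron.genericFibre R).map π)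
      rw [Over.w π, h1]
      exact IsPullback.of_hasPullback Y.hom (Neron.genPt R)
    · exact (pullback.lift_fst _ _ _).symm
  haveI := hgen
  haveI : IsIso ((Neron.genericFibre R).map π).left :=
    inferInstanceAs (IsIso ((Over.forget _).map ((Neron.genericFibre R).map π)))
  haveI hE : IsIso (π.left ∣_ q.opensRange) := by
    have h1 : MorphismProperty.isomorphisms Scheme.{u} ((Neron.genericFibre R).map π).left :=
      (MorphismProperty.isomorphisms.iff _).2 inferInstance
    have h2 : MorphismProperty.isomorphisms Scheme.{u} (pullback.snd π.left q) := by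
      rw [← hsq.isoPullback_inv_snd]
      exact (MorphismProperty.cancel_left_of_respectsIso _ _ _).2 h1
    exact (MorphismProperty.arrow_mk_iso_iff _ (morphismRestrictOpensRange π.left q)).2 h2
  have hle : U ≤ q.opensRange := by
    intro x hx
    show x ∈ Set.range q
    rw [Scheme.Pullback.range_fst, hr]
    exact hU hx
  have h3 := morphismRestrict_app π.left q.opensRange (q.opensRange.ι ⁻¹ᵁ U)
  haveI h4 : IsIso (π.left.app (q.opensRange.ι ''ᵁ q.opensRange.ι ⁻¹ᵁ U)) := by
    haveI : IsIso ((π.left ∣_ q.opensRange).app (q.opensRange.ι ⁻¹ᵁ U)) := inferInstance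
    rw [h3] at this
    exact @IsIso.of_isIso_comp_right _ _ _ _ _ _ _ (Functor.map_isIso _ _) this
  rwa [Scheme.Hom.image_preimage_eq_opensRange_inf, Scheme.Opens.opensRange_ι, inf_eq_right.2 hle] at h4

theorem isIso_app_affine [IsProper π.left] (hgen : IsIso ((Neron.genericFibre R).map π))
    [AlgebraicGeometry.IsReduced (X.hom.fiber (IsLocalRing.closedPoint R))] {V : X.left.Opens} (hV : IsAffineOpen V) :
    IsIso (π.left.app V) := by
  obtain ⟨t, ht⟩ := IsDiscreteValuationRing.exists_irreducible R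
  rw [ConcreteCategory.isIso_iff_bijective]
  let W := π.left ⁻¹ᵁ V
  let s := str X.hom V t
  have hs : π.left.app V s = str Y.hom W t := app_str π.left X.hom Y.hom (Over.w π) V t
  have hWc : IsCompact (W : Set Y.left) := π.left.isCompact_preimage hV.isCompact
  have hWq : IsQuasiSeparated (W : Set Y.left) := Scheme.Hom.isQuasiSeparated_preimage π.left hV.isQuasiSeparated
  haveI := hV.isLocalization_basicOpen s
  haveI := isLocalization_basicOpen_of_qcqs hWc hWq (π.left.app V s)
  have hle : X.left.basicOpen s ≤ X.hom ⁻¹ᵁ (PrimeSpectrum.basicOpen t) := by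
    intro x hx
    have h1 := Scheme.preimage_basicOpen_top X.hom ((Scheme.ΓSpecIso (CommRingCat.of R)).inv t)
    rw [basicOpen_eq_of_affine'] at h1
    have h2 : s = X.left.presheaf.map (homOfLE (le_top : V ≤ ⊤)).op (X.hom.appTop ((Scheme.ΓSpecIso (CommRingCat.of R)).inv t)) := by
      exact ((congrArg (fun m : Γ(Spec (CommRingCat.of R), ⊤) ⟶ Γ(X.left, V) =>
        m ((Scheme.ΓSpecIso (CommRingCat.of R)).inv t)) (X.hom.appLE_eq_app ▸ X.hom.appLE_map (U := ⊤) (V := ⊤) (V' := V) le_top (homOfLE le_top).op))).symm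
    rw [h2, Scheme.basicOpen_res] at hx
    have h3 := hx.2
    rw [← h1] at h3
    simpa using h3
  haveI := isIso_app_of_le X Y π hgen ht hle
  have hres : ∀ a, π.left.app (X.left.basicOpen s) (algebraMap Γ(X.left, V) Γ(X.left, X.left.basicOpen s) a) =
      Y.left.presheaf.map (eqToHom (Scheme.preimage_basicOpen π.left s)).op
        (algebraMap Γ(Y.left, W) Γ(Y.left, Y.left.basicOpen (π.left.app V s)) (π.left.app V a)) := by
    intro a
    simp only [RingHom.algebraMap_toAlgebra]
    erw [← ConcreteCategory.comp_apply, π.left.naturality, ← ConcreteCategory.comp_apply, ← ConcreteCategory.comp_apply]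
    congr 1
    rw [← Functor.map_comp]
    rfl
  have hbij := ConcreteCategory.bijective_of_isIso (π.left.app (X.left.basicOpen s))
  have hbij' := ConcreteCategory.bijective_of_isIso (Y.left.presheaf.map (eqToHom (Scheme.preimage_basicOpen π.left s)).op)
  have hregB : IsSMulRegular Γ(Y.left, W) (π.left.app V s) := by rw [hs]; exact regular_str Y.hom W ht.ne_zero
  refine bijective_core (π.left.app V).hom s (regular_str X.hom V ht.ne_zero) hregB ?_ ?_ ?_
    (fun a d h => dvd_of_dvd_pow X.hom hV ht a d h)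
  · intro a ha
    have h1 := hres a
    rw [show π.left.app V a = 0 from ha, map_zero, map_zero, ← map_zero (π.left.app (X.left.basicOpen s)).hom] at h1
    obtain ⟨⟨_, n, rfl⟩, hn⟩ := (IsLocalization.map_eq_zero_iff (Submonoid.powers s) _ a).1 (hbij.1 h1)
    exact ⟨n, hn⟩
  · intro b
    obtain ⟨z, hz⟩ := hbij.2 (Y.left.presheaf.map (eqToHom (Scheme.preimage_basicOpen π.left s)).op
      (algebraMap Γ(Y.left, W) Γ(Y.left, Y.left.basicOpen (π.left.app V s)) b))
    obtain ⟨⟨a, ⟨_, n, rfl⟩⟩, hn⟩ := IsLocalization.surj (Submonoid.powers s) z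
    refine ⟨n, a, ?_⟩
    have h1 := hres a
    rw [← show z * _ = _ from hn, map_mul, hz, hres, ← map_mul] at h1
    have h2 := hbij'.1 h1
    rw [← map_mul] at h2
    obtain ⟨⟨_, m, rfl⟩, hm⟩ := (IsLocalization.eq_iff_exists (Submonoid.powers (π.left.app V s)) _).1 h2
    rw [map_pow] at hm
    refine hregB.pow m ?_
    exact hm.symm.trans (by simp only [smul_eq_mul]; exact congrArg _ (mul_comm _ _))
  · haveI : UniversallyClosed (π.left ∣_ V) := inferInstance
    haveI : IsAffine (V : Scheme.{u}) := hV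
    have h1 := isIntegral_appTop_of_universallyClosed (π.left ∣_ V)
    rw [morphismRestrict_appTop] at h1
    have h2 := (RingHom.isIntegral_respectsIso.cancel_right_isIso (π.left.app (V.ι ''ᵁ ⊤)) _).1 h1
    rwa [Scheme.Opens.ι_image_top] at h2

theorem isIso_app [IsProper π.left] (hgen : IsIso ((Neron.genericFibre R).map π))
    [AlgebraicGeometry.IsReduced (X.hom.fiber (IsLocalRing.closedPoint R))] (V : X.left.Opens) :
    IsIso (π.left.app V) := by
  let α : X.left.sheaf ⟶ (TopCat.Sheaf.pushforward _ π.left.base).obj Y.left.sheaf := ⟨π.left.c⟩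
  haveI : IsIso α := TopCat.Sheaf.isIso_iff_isIso_basis (B := fun U : X.left.affineOpens => U.1)
    (by rw [Subtype.range_val]; exact X.left.isBasis_affineOpens) fun U => isIso_app_affine X Y π hgen U.2
  exact inferInstanceAs (IsIso (((TopCat.Sheaf.forget _ _).map α).app (op V)))

end Groth.Agent.PushIso
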