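import Groth.Agent.KrullAki.Basic
import Mathlib.RingTheory.QuasiFinite.Basic
import Mathlib.RingTheory.Flat.TorsionFree
import Mathlib.RingTheory.TensorProduct.Finite
import Mathlib.RingTheory.Algebraic.Integral

/-!
# Flat algebras of finite type over Dedekind domains with finite generic fibre are quasi-finite
-/

set_option autoImplicit false

universe u

open TensorProduct

namespace Groth.Agent.NQF

variable {R : Type u} [CommRing R] [IsDedekindDomain R] {A : Type u} [CommRing A] [Algebra R A]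

theorem isAlgebraic_of_finite_generic [Module.Flat R A] (K : Type u) [Field K] [Algebra R K] [IsFractionRing R K]
    [Module.Finite K (K ⊗[R] A)] : Algebra.IsAlgebraic R A := by
  classical
  refine ⟨fun a => ?_⟩
  let x : K ⊗[R] A := 1 ⊗ₜ a
  have hx : IsAlgebraic K x := (Algebra.IsIntegral.isIntegral x).isAlgebraic
  obtain ⟨f, hf0, hf⟩ := (IsFractionRing.isAlgebraic_iff R K (K ⊗[R] A)).2 hx
  refine ⟨f, hf0, ?_⟩
  have h : (1 : K) ⊗ₜ[R] (Polynomial.aeval a f) = (1 : K) ⊗ₜ[R] (0 : A) := by
    rw [TensorProduct.tmul_zero]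
    exact (Polynomial.aeval_algHom_apply
      (Algebra.TensorProduct.includeRight : A →ₐ[R] K ⊗[R] A) a f).symm.trans hf
  have hinj := Module.Flat.rTensor_preserves_injective_linearMap (M := A) (Algebra.linearMap R K)
    (IsFractionRing.injective R K)
  apply (TensorProduct.lid R A).symm.injective
  apply hinj
  simpa using h

/-- In a finitely generated domain algebraic over a Dedekind domain, nonzero primes are maximal. -/
theorem isMaximal_of_ne_bot (A' : Type u) [CommRing A'] [IsDomain A'] [Algebra R A']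
    [Algebra.FiniteType R A'] [Algebra.IsAlgebraic R A'] (hinj : Function.Injective (algebraMap R A'))
    (Q : Ideal A') [Q.IsPrime] (hQ : Q ≠ ⊥) : Q.IsMaximal := by
  classical
  obtain ⟨s, hs⟩ := Algebra.FiniteType.out (R := R) (A := A')
  obtain ⟨r₀, hr₀, hint⟩ := Algebra.IsAlgebraic.exists_integral_multiples (R := R) s
  let R' : Subalgebra R A' := Algebra.adjoin R ((fun z => r₀ • z) '' (s : Set A'))
  have hR'int : Algebra.IsIntegral R R' := by
    refine ⟨fun z => ?_⟩
    have h1 : R' ≤ integralClosure R A' := Algebra.adjoin_le (by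
      rintro _ ⟨z, hz, rfl⟩
      exact hint z hz)
    exact (isIntegral_algHom_iff R'.val Subtype.val_injective).1 (h1 z.2)
  haveI : Algebra.FiniteType R R' :=
    ⟨(Subalgebra.fg_top R').2 ⟨s.image (fun z => r₀ • z), by rw [Finset.coe_image]⟩⟩
  haveI : Module.Finite R R' := Algebra.IsIntegral.finite
  haveI : IsNoetherianRing R' := IsNoetherianRing.of_finite R R'
  have hinj' : Function.Injective (algebraMap R R') := fun a b h => hinj (congrArg Subtype.val h)
  haveI : Ring.KrullDimLE 1 R' := by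
    rw [Ring.krullDimLE_one_iff_of_noZeroDivisors]
    intro P hP hPp
    haveI := hPp
    refine Ideal.isMaximal_of_isIntegral_of_isMaximal_comap (R := R) P
      ((Ideal.IsPrime.comap (algebraMap R R')).isMaximal ?_)
    exact fun h => hP (Ideal.eq_bot_of_comap_eq_bot (R := R) h)
  have hmul : ∀ a : A', ∃ r : R, r ≠ 0 ∧ r • a ∈ R' := by
    intro a
    have ha : a ∈ Algebra.adjoin R (s : Set A') := hs ▸ Algebra.mem_top
    induction ha using Algebra.adjoin_induction with
    | mem z hz => exact ⟨r₀, hr₀, Algebra.subset_adjoin ⟨z, hz, rfl⟩⟩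
    | algebraMap c => exact ⟨1, one_ne_zero, by rw [one_smul]; exact R'.algebraMap_mem c⟩
    | add x y _ _ hx hy =>
      obtain ⟨p, hp, hpx⟩ := hx
      obtain ⟨q, hq, hqy⟩ := hy
      refine ⟨p * q, mul_ne_zero hp hq, ?_⟩
      rw [smul_add, mul_comm p q, mul_smul, mul_comm q p, mul_smul]
      exact R'.add_mem (R'.smul_mem hpx q) (R'.smul_mem hqy p)
    | mul x y _ _ hx hy =>
      obtain ⟨p, hp, hpx⟩ := hx
      obtain ⟨q, hq, hqy⟩ := hy
      refine ⟨p * q, mul_ne_zero hp hq, ?_⟩
      rw [← smul_mul_smul_comm]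
      exact R'.mul_mem hpx hqy
  let L := FractionRing A'
  haveI : IsFractionRing R' L := by
    refine ⟨⟨?_, ?_, ?_⟩⟩
    · rintro ⟨y, hy⟩
      refine IsUnit.mk0 _ fun h => nonZeroDivisors.ne_zero hy (Subtype.ext ?_)
      exact (map_eq_zero_iff _ (IsFractionRing.injective A' L)).1 ((IsScalarTower.algebraMap_apply R' A' L y).symm.trans h)
    · intro z
      obtain ⟨a, b, hb, rfl⟩ := IsFractionRing.div_surjective (A := A') z
      obtain ⟨p, hp, hpa⟩ := hmul a
      obtain ⟨q, hq, hqb⟩ := hmul b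
      have hb' : (⟨q • b, hqb⟩ : R') ≠ 0 := fun h => by
        have h' : q • b = 0 := congrArg Subtype.val h
        rw [Algebra.smul_def, mul_eq_zero] at h'
        rcases h' with h' | h'
        · exact hq ((map_eq_zero_iff _ hinj).1 h')
        · exact nonZeroDivisors.ne_zero hb h'
      refine ⟨⟨q • (⟨p • a, hpa⟩ : R'), ⟨p • ⟨q • b, hqb⟩, mem_nonZeroDivisors_of_ne_zero ?_⟩⟩, ?_⟩
      · intro h
        have h' : p • (q • b) = 0 := congrArg Subtype.val h
        rw [Algebra.smul_def, mul_eq_zero] at h'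
        exact h'.elim (fun h' => hp ((map_eq_zero_iff _ hinj).1 h')) fun h' => hb' (Subtype.ext h')
      · show algebraMap A' L a / algebraMap A' L b * algebraMap A' L (p • (q • b)) = algebraMap A' L (q • (p • a))
        rw [Algebra.smul_def, Algebra.smul_def, Algebra.smul_def, Algebra.smul_def, map_mul, map_mul, map_mul, map_mul]
        have hb0 : algebraMap A' L b ≠ 0 := IsFractionRing.to_map_ne_zero_of_mem_nonZeroDivisors hb
        rw [div_mul_eq_mul_div, div_eq_iff hb0]
        ring
    · intro x y h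
      exact ⟨1, by rw [Subtype.ext (IsFractionRing.injective A' L ((IsScalarTower.algebraMap_apply R' A' L x).symm.trans (h.trans (IsScalarTower.algebraMap_apply R' A' L y))))]⟩
  let B : Subalgebra R' L := (IsScalarTower.toAlgHom R' A' L).range
  haveI := KrullAki.krullDimLE_one_subalgebra B
  let e : A' ≃+* B :=
    (AlgEquiv.ofInjective (IsScalarTower.toAlgHom R' A' L) (IsFractionRing.injective A' L)).toRingEquiv
  haveI : Ring.KrullDimLE 1 A' := by
    rw [Ring.krullDimLE_iff, ringKrullDim_eq_of_ringEquiv e]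
    exact Ring.krullDimLE_iff.1 inferInstance
  exact Ring.krullDimLE_one_iff_of_noZeroDivisors.1 inferInstance Q hQ ‹_›

variable (K : Type u) [Field K] [Algebra R K] [IsFractionRing R K]

theorem quasiFinite_of_flat_of_finite_generic [Module.Flat R A] [Algebra.FiniteType R A]
    [Module.Finite K (K ⊗[R] A)] : Algebra.QuasiFinite R A := by
  haveI := isAlgebraic_of_finite_generic (R := R) (A := A) K
  haveI : IsNoetherianRing A := Algebra.FiniteType.isNoetherianRing R A
  haveI : Nontrivial R := inferInstance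
  have hbot : ∀ P ∈ minimalPrimes A, P.comap (algebraMap R A) = ⊥ := by
    intro P hP
    rw [eq_bot_iff]
    intro r hr
    by_contra hne
    have hne' : r ≠ 0 := fun h => hne (by rw [h]; exact Submodule.zero_mem _)
    have hreg : IsSMulRegular A r := Module.Flat.isSMulRegular_of_isRegular (IsRegular.of_ne_zero hne')
    haveI := hP.1.1
    have hdisj := Ideal.disjoint_nonZeroDivisors_of_mem_minimalPrimes hP
    refine Set.disjoint_left.1 hdisj hr ?_
    rw [SetLike.mem_coe, mem_nonZeroDivisors_iff_right]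
    intro z hz
    exact hreg (show r • z = r • 0 by rw [smul_zero, Algebra.smul_def, mul_comm]; exact hz)
  have hdim : ∀ (q q' : Ideal A) [q.IsPrime] [q'.IsPrime], q < q' → q ∈ minimalPrimes A ∧ q'.IsMaximal := by
    intro q q' _ _ hlt
    obtain ⟨P, hP, hPq⟩ := Ideal.exists_minimalPrimes_le (bot_le : ⊥ ≤ q)
    haveI := hP.1.1
    haveI : Algebra.IsAlgebraic R (A ⧸ P) :=
      ⟨fun b => by
        obtain ⟨a, rfl⟩ := Ideal.Quotient.mkₐ_surjective R P b
        exact (Algebra.IsAlgebraic.isAlgebraic a).algHom (Ideal.Quotient.mkₐ R P)⟩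
    have hinj : Function.Injective (algebraMap R (A ⧸ P)) := by
      rw [injective_iff_map_eq_zero]
      intro r hr
      have : r ∈ P.comap (algebraMap R A) := by
        rw [IsScalarTower.algebraMap_apply R A (A ⧸ P), Ideal.Quotient.algebraMap_eq] at hr
        exact Ideal.mem_comap.2 (Ideal.Quotient.eq_zero_iff_mem.1 hr)
      rw [hbot P hP] at this
      exact this
    haveI : Algebra.FiniteType R (A ⧸ P) :=
      Algebra.FiniteType.of_surjective (Ideal.Quotient.mkₐ R P) Ideal.Quotient.mk_surjective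
    have key : ∀ Q : Ideal A, Q.IsPrime → P < Q → Q.IsMaximal := by
      intro Q hQ hPQ
      haveI := hQ
      haveI : (Q.map (Ideal.Quotient.mk P)).IsPrime :=
        Ideal.map_isPrime_of_surjective Ideal.Quotient.mk_surjective (by rw [Ideal.mk_ker]; exact hPQ.le)
      have hne : Q.map (Ideal.Quotient.mk P) ≠ ⊥ := by
        rw [Ne, Ideal.map_eq_bot_iff_le_ker, Ideal.mk_ker]
        exact hPQ.not_ge
      haveI := isMaximal_of_ne_bot (R := R) (A ⧸ P) hinj _ hne
      have := Ideal.comap_isMaximal_of_surjective (K := Q.map (Ideal.Quotient.mk P)) (Ideal.Quotient.mk P)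
        Ideal.Quotient.mk_surjective
      rwa [Ideal.comap_map_of_surjective _ Ideal.Quotient.mk_surjective, ← RingHom.ker_eq_comap_bot, Ideal.mk_ker,
        sup_eq_left.2 hPQ.le] at this
    rcases hPq.eq_or_lt with rfl | hlt'
    · exact ⟨hP, key q' ‹_› hlt⟩
    · have h1 := key q ‹_› hlt'
      exact absurd (h1.eq_of_le (Ideal.IsPrime.ne_top ‹q'.IsPrime›) hlt.le) hlt.ne
  rw [Algebra.QuasiFinite.iff_finite_comap_preimage_singleton]
  intro p
  rcases eq_or_ne p.asIdeal ⊥ with hp | hp
  · refine Set.Finite.of_finite_image (f := PrimeSpectrum.asIdeal) ?_ fun a _ b _ h => PrimeSpectrum.ext h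
    refine (minimalPrimes.finite_of_isNoetherianRing A).subset ?_
    rintro _ ⟨q, hq, rfl⟩
    obtain ⟨P, hP, hPq⟩ := Ideal.exists_minimalPrimes_le (bot_le : (⊥ : Ideal A) ≤ q.asIdeal)
    rcases hPq.eq_or_lt with h | hlt
    · exact h ▸ hP
    haveI := hP.1.1
    obtain ⟨-, hmax⟩ := hdim P q.asIdeal hlt
    exfalso
    have hqp : q.asIdeal.comap (algebraMap R A) = ⊥ := (congrArg PrimeSpectrum.asIdeal hq).trans hp
    obtain ⟨a, haq, haP⟩ := SetLike.exists_of_lt hlt
    haveI : Algebra.IsAlgebraic R (A ⧸ P) :=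
      ⟨fun b => by
        obtain ⟨a, rfl⟩ := Ideal.Quotient.mkₐ_surjective R P b
        exact (Algebra.IsAlgebraic.isAlgebraic a).algHom (Ideal.Quotient.mkₐ R P)⟩
    have hne : q.asIdeal.map (Ideal.Quotient.mk P) ≠ ⊥ := by
      rw [Ne, Ideal.map_eq_bot_iff_le_ker, Ideal.mk_ker]
      exact hlt.not_ge
    haveI : (q.asIdeal.map (Ideal.Quotient.mk P)).IsPrime :=
      Ideal.map_isPrime_of_surjective Ideal.Quotient.mk_surjective (by rw [Ideal.mk_ker]; exact hlt.le)
    have ha0 : Ideal.Quotient.mk P a ≠ 0 := fun h => haP (Ideal.Quotient.eq_zero_iff_mem.1 h)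
    obtain ⟨c, hc, hdvd⟩ := (Algebra.IsAlgebraic.isAlgebraic (R := R) (Ideal.Quotient.mk P a)).exists_nonzero_dvd
      (mem_nonZeroDivisors_of_ne_zero ha0)
    obtain ⟨e, he⟩ := hdvd
    obtain ⟨e, rfl⟩ := Ideal.Quotient.mk_surjective e
    rw [IsScalarTower.algebraMap_apply R A (A ⧸ P), Ideal.Quotient.algebraMap_eq, ← map_mul, Ideal.Quotient.mk_eq_mk_iff_sub_mem] at he
    have hcq : algebraMap R A c ∈ q.asIdeal := by
      have := q.asIdeal.add_mem (hlt.le he) (q.asIdeal.mul_mem_right e haq)
      rwa [sub_add_cancel] at this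
    exact hc (by simpa [hqp] using (Ideal.mem_comap.2 hcq : c ∈ q.asIdeal.comap (algebraMap R A)))
  · refine Set.Finite.of_finite_image (f := PrimeSpectrum.asIdeal) ?_ fun a _ b _ h => PrimeSpectrum.ext h
    refine (Ideal.finite_minimalPrimes_of_isNoetherianRing A (p.asIdeal.map (algebraMap R A))).subset ?_
    rintro _ ⟨q, hq, rfl⟩
    have hqp : q.asIdeal.comap (algebraMap R A) = p.asIdeal := congrArg PrimeSpectrum.asIdeal hq
    refine ⟨⟨q.isPrime, Ideal.map_le_iff_le_comap.2 hqp.ge⟩, fun Q hQ hQq => ?_⟩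
    haveI := hQ.1
    by_contra hn
    have hlt : Q < q.asIdeal := lt_of_le_of_ne hQq fun h => hn h.ge
    have h0 := hbot Q (hdim Q q.asIdeal hlt).1
    exact hp (le_bot_iff.1 ((Ideal.map_le_iff_le_comap.1 hQ.2).trans h0.le))

end Groth.Agent.NQF
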