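import Groth.Agent.NQF.FieldFlat
import Groth.Agent.GrpSchLib.FibreDimGrp
import Groth.Agent.GrpSchLib.HomFinite
import Groth.Agent.GrpSchLib.SmoothReduced
import Groth.Prelude.Def_Neron
import Groth.Prelude.Def_SGA7IX

/-!
# Generic fibres of isogenies
-/

set_option autoImplicit false

universe u

open CategoryTheory Limits AlgebraicGeometry MonoidalCategory CartesianMonoidalCategory MonObj
  TopologicalSpace
open scoped CategoryTheory.Obj

namespace Groth.Agent.NQF

open GrpSchLib GrpSchLib.HomFibre

theorem map_isPullback' {S T T' : Scheme.{u}} {G H : Over S} (u : G ⟶ H) (j : T ⟶ S) (e : T' ⟶ T) (σ : T' ⟶ S)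
    (h : e ≫ j = σ) :
    IsPullback (pullback.map G.hom σ G.hom j (𝟙 _) e (𝟙 _) (by simp) (by simp [h]))
      ((Over.pullback σ).map u).left ((Over.pullback j).map u).left
      (pullback.map H.hom σ H.hom j (𝟙 _) e (𝟙 _) (by simp) (by simp [h])) := by
  refine IsPullback.of_right ?_ ?_ (map_isPullback u j)
  · rw [show pullback.map G.hom σ G.hom j (𝟙 _) e (𝟙 _) (by simp) (by simp [h]) ≫ pullback.fst G.hom j =
        pullback.fst G.hom σ from (pullback.lift_fst _ _ _).trans (Category.comp_id _),
      show pullback.map H.hom σ H.hom j (𝟙 _) e (𝟙 _) (by simp) (by simp [h]) ≫ pullback.fst H.hom j =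
        pullback.fst H.hom σ from (pullback.lift_fst _ _ _).trans (Category.comp_id _)]
    exact map_isPullback u σ
  · apply pullback.hom_ext
    · have h1 : ((Over.pullback j).map u).left ≫ pullback.fst H.hom j = pullback.fst G.hom j ≫ u.left :=
        pullback.lift_fst _ _ _
      have h2 : ((Over.pullback σ).map u).left ≫ pullback.fst H.hom σ = pullback.fst G.hom σ ≫ u.left :=
        pullback.lift_fst _ _ _
      simp only [Category.assoc]
      rw [h1, show pullback.map H.hom σ H.hom j (𝟙 _) e (𝟙 _) (by simp) (by simp [h]) ≫ pullback.fst H.hom j =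
          pullback.fst H.hom σ from (pullback.lift_fst _ _ _).trans (Category.comp_id _), h2, ← Category.assoc]
      exact congrArg (· ≫ u.left) ((pullback.lift_fst _ _ _).trans (Category.comp_id _))
    · have h1 : ((Over.pullback j).map u).left ≫ pullback.snd H.hom j = pullback.snd G.hom j :=
        Over.w ((Over.pullback j).map u)
      have h2 : ((Over.pullback σ).map u).left ≫ pullback.snd H.hom σ = pullback.snd G.hom σ :=
        Over.w ((Over.pullback σ).map u)
      simp only [Category.assoc]
      rw [h1, show pullback.map H.hom σ H.hom j (𝟙 _) e (𝟙 _) (by simp) (by simp [h]) ≫ pullback.snd H.hom j =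
          pullback.snd H.hom σ ≫ e from pullback.lift_snd _ _ _, ← Category.assoc, h2]
      exact pullback.lift_snd _ _ _

variable (R : Type u) [CommRing R] [IsDomain R]

theorem exists_fac_aux {L : CommRingCat.{u}} (hL : IsField L) (φ₀ : CommRingCat.of R ⟶ L)
    (η₀ : Spec (CommRingCat.of R)) (hη : PrimeSpectrum.asIdeal η₀ = ⊥)
    (hpt : ∀ q : Spec L, Spec.map φ₀ q = η₀) :
    ∃ e : Spec L ⟶ Spec (CommRingCat.of (FractionRing R)), e ≫ Neron.genPt R = Spec.map φ₀ := by
  letI := hL.toField
  have hu : ∀ r : nonZeroDivisors R, IsUnit (φ₀.hom r) := by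
    intro r
    refine isUnit_iff_ne_zero.2 fun h0 => nonZeroDivisors.ne_zero r.2 ?_
    have h2 : Ideal.comap φ₀.hom (⊥ : Ideal L) = ⊥ :=
      (congrArg PrimeSpectrum.asIdeal (hpt ⟨⊥, Ideal.isPrime_bot⟩)).trans hη
    have h3 : (r : R) ∈ Ideal.comap φ₀.hom (⊥ : Ideal L) := Ideal.mem_comap.2 h0
    rw [h2] at h3
    exact h3
  refine ⟨Spec.map (CommRingCat.ofHom (IsLocalization.lift (S := FractionRing R) hu)), ?_⟩
  refine (Spec.map_comp _ _).symm.trans (congrArg Spec.map ?_)
  ext r
  exact IsLocalization.lift_eq hu r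

/-- The residue field of the generic point receives the fraction field. -/
theorem exists_fac (η₀ : Spec (CommRingCat.of R)) (hη : PrimeSpectrum.asIdeal η₀ = ⊥) :
    ∃ e : Spec ((Spec (CommRingCat.of R)).residueField η₀) ⟶ Spec (CommRingCat.of (FractionRing R)),
      e ≫ Neron.genPt R = (Spec (CommRingCat.of R)).fromSpecResidueField η₀ := by
  obtain ⟨φ₀, hφ₀⟩ := Spec.map_surjective ((Spec (CommRingCat.of R)).fromSpecResidueField η₀)
  rw [← hφ₀]
  refine exists_fac_aux R (Field.toIsField _) φ₀ η₀ hη fun q => ?_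
  rw [hφ₀]
  exact Scheme.fromSpecResidueField_apply _ _

/-- An isogeny over a field is finite. -/
theorem isFinite_of_isogeny {k : Type u} [Field k] {G H : Over (Spec (CommRingCat.of k))} [GrpObj G] [GrpObj H]
    [LocallyOfFiniteType G.hom] [QuasiCompact G.hom] [LocallyOfFiniteType H.hom] [IsSeparated H.hom]
    (u : G ⟶ H) [IsMonHom u] (hu : SGA7.IsIsogenyOver u) : IsFinite u.left := by
  haveI : QuasiCompact u.left := by
    haveI : QuasiCompact (u.left ≫ H.hom) := by rw [Over.w u]; infer_instance
    exact QuasiCompact.of_comp u.left H.hom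
  let N := Limits.pullback u η[H]
  have sq : IsPullback (pullback.fst u η[H]) (pullback.snd u η[H]) u η[H] := IsPullback.of_hasPullback u η[H]
  have hker : AlgGrp.IsKernel (pullback.fst u η[H]) u := by
    have e : pullback.snd u η[H] = toUnit N := toUnit_unique _ _
    rw [e] at sq
    exact sq
  haveI : IsFinite N.hom := hu.2 _ _ hker
  haveI : IsLocallyArtinian (Spec (CommRingCat.of k)) := inferInstance
  haveI : IsLocallyArtinian N.left := IsLocallyArtinian.of_locallyQuasiFinite N.hom
  have sqN := sq.map (Over.forget _)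
  refine HomFinite.isFinite_of_discrete_ker u ?_
  haveI : DiscreteTopology ↥((Over.forget (Spec (CommRingCat.of k))).obj N) :=
    inferInstanceAs (DiscreteTopology ↥N.left)
  exact sqN.isoPullback.hom.homeomorph.discreteTopology

end Groth.Agent.NQF
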