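import Groth.Agent.GrpSchLib.HomFibre
import Groth.Agent.GrpSchLib.FieldDim
import Groth.Agent.FibDim.AffineSpaceFibre

/-!
# Quasi-finite homomorphisms of algebraic groups of the same dimension are flat
-/

set_option autoImplicit false

universe u

open CategoryTheory Limits AlgebraicGeometry MonoidalCategory CartesianMonoidalCategory MonObj
  TopologicalSpace

namespace Groth.Agent.NQF

open GrpSchLib GrpSchLib.Loci GrpSchLib.Saturate

theorem isField_stalk {X : Scheme.{u}} [IsReduced X] {x : X} (hx : IsMaxPt x) :
    IsField (X.presheaf.stalk x) := by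
  have hsub : Subsingleton ↥(Spec (X.presheaf.stalk x)) := by
    refine ⟨fun a b => (X.fromSpecStalk x).isEmbedding.injective ?_⟩
    have h : ∀ c, X.fromSpecStalk x c = x := fun c => hx _ (by
      have : X.fromSpecStalk x c ∈ Set.range (X.fromSpecStalk x) := ⟨c, rfl⟩
      rwa [Scheme.range_fromSpecStalk] at this)
    rw [h a, h b]
  rw [IsLocalRing.isField_iff_maximalIdeal_eq, eq_bot_iff]
  intro z hz
  have hn : z ∈ nilradical (X.presheaf.stalk x) := by
    rw [nilradical_eq_sInf, Submodule.mem_sInf]
    intro p hp
    have h := congrArg PrimeSpectrum.asIdeal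
      (@Subsingleton.elim _ hsub (⟨p, hp⟩ : PrimeSpectrum _) (IsLocalRing.closedPoint (X.presheaf.stalk x)))
    rw [show p = IsLocalRing.maximalIdeal _ from h]
    exact hz
  rwa [nilradical_eq_zero] at hn

theorem flat_of_lqf {k : Type u} [Field k] {G H : Over (Spec (CommRingCat.of k))} [GrpObj G] [GrpObj H]
    [LocallyOfFiniteType G.hom] [LocallyOfFiniteType H.hom] [IsReduced H.left]
    (hdim : topologicalKrullDim G.left = topologicalKrullDim H.left)
    (u : G ⟶ H) [IsMonHom u] [LocallyQuasiFinite u.left] : Flat u.left := by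
  haveI : LocallyOfFiniteType (u.left ≫ H.hom) := by rw [Over.w u]; infer_instance
  haveI : LocallyOfFiniteType u.left := locallyOfFiniteType_of_comp u.left H.hom
  haveI : IsLocallyNoetherian H.left := LocallyOfFiniteType.isLocallyNoetherian H.hom
  haveI : LocallyOfFinitePresentation u.left := inferInstance
  haveI : LocallyOfFinitePresentation G.hom := inferInstance
  obtain ⟨g, hg, -⟩ := exists_isMaxPt (η[G].left (IsLocalRing.closedPoint k) : G.left)
  obtain ⟨c, hc, hcg⟩ := exists_isMaxPt (u.left g : H.left)
  have hfd : VarDim.fdeg u.left g = 0 := by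
    have h1 := VarDim.fdeg_eq_rdeg u.left H.hom g
    rw [← FibDim.rd_eq_rdeg u.left g, FibDim.rd_eq_zero_of_quasiFinite u.left g] at h1
    exact_mod_cast h1
  have hdeg : VarDim.deg H.hom (u.left g) = VarDim.deg G.hom g := by
    rw [VarDim.deg_eq_add u.left H.hom (Over.w u) g, hfd, add_zero]
  have hcd : VarDim.deg H.hom c = VarDim.deg G.hom g := by
    have h1 := topologicalKrullDim_eq_deg hg
    rw [hdim, topologicalKrullDim_eq_deg hc] at h1
    exact_mod_cast h1
  have hmax : IsMaxPt (u.left g) := by
    rw [← VarDim.eq_of_specializes_of_deg_le H.hom hcg (hcd.trans hdeg.symm).le]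
    exact hc
  have hflat : g ∈ loc FL u.left := by
    rw [HomFibre.mem_loc_FL_iff]
    exact RingHom.Flat.of_isField (isField_stalk hmax) _
  haveI : FL.{u}.IsStableUnderBaseChange :=
    MorphismProperty.IsStableUnderBaseChange.inf (P := @Flat) (Q := @LocallyOfFinitePresentation)
  have hG : FL.{u} G.hom := ⟨inferInstance, inferInstance⟩
  have hall : ∀ x : G.left, (u.left.stalkMap x).hom.Flat := fun x =>
    (HomFibre.mem_loc_FL_iff u.left x).mp (saturated (R := FL.{u}) (homAction u) u (equivariant_hom u) compat_FL
      hG hflat (Subsingleton.elim (α := PrimeSpectrum k) _ _))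
  exact Flat.of_stalkMap _ hall

end Groth.Agent.NQF
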