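import Groth.Agent.S9821
import Groth.Agent.S0386
import Groth.Agent.FibDim.RelDim
import Groth.Agent.SchTop.Closed
import Mathlib.RingTheory.IntegralClosure.GoingDown
import Mathlib.RingTheory.DedekindDomain.Basic
import Mathlib.RingTheory.Flat.TorsionFree
import Mathlib.AlgebraicGeometry.Morphisms.Finite

/-!
# Finite dominant morphisms to normal surfaces
-/

set_option autoImplicit false

universe u

open CategoryTheory AlgebraicGeometry TopologicalSpace

namespace Groth.Agent.FiniteNormal

variable {X Y : Scheme.{u}} (f : X ⟶ Y) [IsIntegral X] [IsIntegral Y] [IsFinite f] [Surjective f]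

theorem goingDown (hY : Pi1.IsNormalScheme Y) : GeneralizingMap f.base := by
  intro x y' hy'
  obtain ⟨U, hU, hxU, -⟩ := exists_isAffineOpen_mem_and_subset (x := f.base x) (U := ⊤) trivial
  have hV : IsAffineOpen (f ⁻¹ᵁ U) := hU.preimage f
  haveI : Nonempty U := ⟨⟨_, hxU⟩⟩
  haveI : Nonempty ↥((f ⁻¹ᵁ U : X.Opens) : Scheme.{u}) := ⟨⟨x, hxU⟩⟩
  haveI : IsDomain Γ(X, f ⁻¹ᵁ U) := AlgebraicGeometry.IsIntegral.component_integral (f ⁻¹ᵁ U)
  haveI : IsIntegrallyClosed Γ(Y, U) := (Groth.Agent.S9821.result Y).1 hY U hU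
  have hfin : (f.app U).hom.Finite := f.finite_app U hU
  algebraize [(f.app U).hom]
  haveI : Algebra.IsIntegral Γ(Y, U) Γ(X, f ⁻¹ᵁ U) := Algebra.IsIntegral.of_finite _ _
  let φ := Spec.map (f.app U)
  have hφ : φ ≫ hU.fromSpec = hV.fromSpec ≫ f := by
    rw [← hU.SpecMap_appLE_fromSpec f hV le_rfl, Scheme.Hom.appLE_eq_app]
  have hsurj : Function.Surjective (PrimeSpectrum.comap (f.app U).hom) := by
    intro q
    obtain ⟨z, hz⟩ := f.surjective (hU.fromSpec q)
    have hzU : z ∈ f ⁻¹ᵁ U := by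
      show f z ∈ (U : Set Y)
      rw [hz, ← hU.range_fromSpec]
      exact ⟨q, rfl⟩
    obtain ⟨p, hp⟩ : z ∈ Set.range hV.fromSpec := by rw [hV.range_fromSpec]; exact hzU
    refine ⟨p, hU.fromSpec.isOpenEmbedding.injective ?_⟩
    show hU.fromSpec (φ p) = _
    rw [← Scheme.Hom.comp_apply, hφ, Scheme.Hom.comp_apply, hp, hz]
  haveI : FaithfulSMul Γ(Y, U) Γ(X, f ⁻¹ᵁ U) := by
    rw [faithfulSMul_iff_algebraMap_injective, injective_iff_map_eq_zero]
    intro a ha
    obtain ⟨p, hp⟩ := hsurj ⟨⊥, Ideal.isPrime_bot⟩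
    have : a ∈ (PrimeSpectrum.comap (f.app U).hom p).asIdeal := by
      show (f.app U).hom a ∈ p.asIdeal
      rw [show (f.app U).hom a = 0 from ha]
      exact p.asIdeal.zero_mem
    rw [hp] at this
    exact this
  have hgen := Algebra.HasGoingDown.iff_generalizingMap_primeSpectrumComap.mp
    (inferInstance : Algebra.HasGoingDown Γ(Y, U) Γ(X, f ⁻¹ᵁ U))
  obtain ⟨p, rfl⟩ : x ∈ Set.range hV.fromSpec := by rw [hV.range_fromSpec]; exact hxU
  have hyU : y' ∈ U := hy'.mem_open U.isOpen hxU
  obtain ⟨q', rfl⟩ : y' ∈ Set.range hU.fromSpec := by rw [hU.range_fromSpec]; exact hyU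
  have hsp : q' ⤳ φ p := by
    refine hU.fromSpec.isOpenEmbedding.isInducing.specializes_iff.mp ?_
    rw [← Scheme.Hom.comp_apply, hφ, Scheme.Hom.comp_apply]
    exact hy'
  obtain ⟨p', hp', hpq⟩ := hgen hsp
  refine ⟨hV.fromSpec p', hp'.map hV.fromSpec.continuous, ?_⟩
  show (hV.fromSpec ≫ f) p' = _
  rw [← hφ]
  exact congrArg hU.fromSpec hpq

theorem stalk_injective (x : X) : Function.Injective (f.stalkMap x).hom := by
  haveI : IsDominant f := inferInstance
  rw [injective_iff_map_eq_zero]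
  intro a ha
  obtain ⟨U, hxU, s, rfl⟩ := Y.presheaf.germ_exist a
  have h1 : X.presheaf.germ (f ⁻¹ᵁ U) x hxU (f.app U s) = 0 := (f.germ_stalkMap_apply U x hxU s).symm.trans ha
  obtain ⟨z, hz⟩ := f.surjective (genericPoint Y)
  have hgU : genericPoint Y ∈ U := (genericPoint_specializes (f x)).mem_open U.isOpen hxU
  have h2 : f.app U s = 0 := germ_injective_of_isIntegral X x hxU (h1.trans (map_zero _).symm)
  have hb : Y.basicOpen s = ⊥ := by
    refine le_bot_iff.1 fun y hy => ?_
    obtain ⟨w, rfl⟩ := f.surjective y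
    have hw : w ∈ f ⁻¹ᵁ Y.basicOpen s := hy
    rw [Scheme.preimage_basicOpen, h2, Scheme.basicOpen_zero] at hw
    exact hw
  rw [(basicOpen_eq_bot_iff s).1 hb, map_zero]

theorem flat_of_dim_le_one [IsLocallyNoetherian Y] (hY : Pi1.IsNormalScheme Y) {x : X}
    (h : ringKrullDim (Y.presheaf.stalk (f x)) ≤ 1) : (f.stalkMap x).hom.Flat := by
  haveI := (hY (f x)).2
  haveI : Ring.KrullDimLE 1 (Y.presheaf.stalk (f x)) := Ring.krullDimLE_iff.2 h
  haveI : Ring.DimensionLEOne (Y.presheaf.stalk (f x)) := ⟨fun {p} hp hpp =>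
    Ring.krullDimLE_one_iff_of_noZeroDivisors.1 inferInstance p hp hpp⟩
  haveI : IsDedekindRing (Y.presheaf.stalk (f x)) := {}
  haveI : IsDedekindDomain (Y.presheaf.stalk (f x)) := {}
  algebraize [(f.stalkMap x).hom]
  haveI : IsDomain (X.presheaf.stalk x) := inferInstance
  haveI : Module.IsTorsionFree (Y.presheaf.stalk (f x)) (X.presheaf.stalk x) := by
    refine ⟨fun r hr a b hab => ?_⟩
    have hab : algebraMap (Y.presheaf.stalk (f x)) (X.presheaf.stalk x) r * a = algebraMap (Y.presheaf.stalk (f x)) (X.presheaf.stalk x) r * b := by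
      rw [← Algebra.smul_def, ← Algebra.smul_def]
      exact hab
    exact mul_left_cancel₀ ((map_ne_zero_iff _ (stalk_injective f x)).2 hr.ne_zero) hab
  show Module.Flat (Y.presheaf.stalk (f x)) (X.presheaf.stalk x)
  infer_instance

theorem main [IsLocallyNoetherian Y] [CompactSpace Y] (hY : Pi1.IsNormalScheme Y)
    (hdX : topologicalKrullDim X = 2) (hdY : topologicalKrullDim Y = 2) :
    ∃ V : Y.Opens, ((V : Set Y)ᶜ).Finite ∧ (∀ y : Y, y ∉ V → ringKrullDim (Y.presheaf.stalk y) = 2) ∧
      (((f ⁻¹ᵁ V : X.Opens) : Set X)ᶜ).Finite ∧ (∀ x : X, x ∉ f ⁻¹ᵁ V → ringKrullDim (X.presheaf.stalk x) = 2) ∧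
      Flat (f ∣_ V) := by
  haveI : IsLocallyNoetherian X := LocallyOfFiniteType.isLocallyNoetherian f
  haveI : LocallyOfFinitePresentation f := LocallyOfFinitePresentation.iff_locallyOfFiniteType.2 inferInstance
  let Z := f.base '' {x | (f.stalkMap x).hom.Flat}ᶜ
  have hZc : IsClosed Z := f.isClosedMap _ (Groth.Agent.S0386.result f).isClosed_compl
  let V : Y.Opens := ⟨Zᶜ, hZc.isOpen_compl⟩
  have hdim : ∀ y ∈ Z, ringKrullDim (Y.presheaf.stalk y) = 2 := by
    rintro _ ⟨x, hx, rfl⟩
    refine le_antisymm ((Groth.Agent.SchTop.ringKrullDim_stalk_le _).trans hdY.le) ?_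
    by_contra hlt
    refine hx (flat_of_dim_le_one f hY ?_)
    revert hlt
    generalize ringKrullDim (Y.presheaf.stalk (f x)) = d
    intro hlt
    induction d with
    | bot => exact bot_le
    | coe d =>
      induction d with
      | top => exact absurd le_top hlt
      | coe d =>
        have : ¬ (2 : ℕ) ≤ d := fun hd => hlt (WithBot.coe_le_coe.2 (ENat.coe_le_coe.2 hd))
        exact_mod_cast Nat.lt_succ_iff.1 (not_le.1 this)
  have hcl : ∀ y ∈ Z, IsClosed ({y} : Set Y) := by
    intro y hy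
    rw [← closure_eq_iff_isClosed]
    refine Set.Subset.antisymm (fun z hz => ?_) subset_closure
    by_contra hne
    have h1 := FibDim.ringKrullDim_stalk_lt (specializes_iff_mem_closure.2 hz) (Ne.symm hne)
    rw [hdim y hy] at h1
    exact absurd ((Groth.Agent.SchTop.ringKrullDim_stalk_le z).trans hdY.le) h1.not_ge
  have hZfin : Z.Finite := by
    haveI : IsNoetherian Y := {}
    haveI : NoetherianSpace Z := inferInstance
    refine (((NoetherianSpace.finite_irreducibleComponents (α := Z)).biUnion (t := fun C : Set Z => C) ?_).image Subtype.val).subset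
      (s := Subtype.val '' ⋃ C ∈ irreducibleComponents Z, (C : Set Z)) ?_
    · intro C hC
      refine Set.Subsingleton.finite fun a ha b hb => ?_
      obtain ⟨g, hg⟩ : ∃ g : Y, IsGenericPoint g (closure (Subtype.val '' C)) :=
        ⟨_, ((hC.1.image _ continuous_subtype_val.continuousOn).closure).isGenericPoint_genericPoint isClosed_closure⟩
      have hgZ : g ∈ Z := closure_minimal (Subtype.coe_image_subset _ _) hZc hg.mem
      have key : ∀ c ∈ C, (c : Y) = g := fun c hc => by
        have := hg.specializes (subset_closure ⟨c, hc, rfl⟩)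
        exact (hcl g hgZ).closure_eq.subset this.mem_closure
      exact Subtype.ext ((key a ha).trans (key b hb).symm)
    · intro z hz
      exact ⟨⟨z, hz⟩, Set.mem_biUnion (irreducibleComponent_mem_irreducibleComponents _) mem_irreducibleComponent, rfl⟩
  refine ⟨V, by simpa [V] using hZfin, fun y hy => hdim y (not_not.1 hy), ?_, fun x hx => ?_, ?_⟩
  · have : ((f ⁻¹ᵁ V : X.Opens) : Set X)ᶜ = f.base ⁻¹' Z := by simp [V]
    rw [this]
    exact hZfin.preimage' fun y _ => f.finite_preimage_singleton y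
  · refine le_antisymm ((Groth.Agent.SchTop.ringKrullDim_stalk_le _).trans hdX.le) ?_
    have h2 := hdim _ (not_not.1 hx)
    have key : ∀ (x : X) (n : ℕ), (n : WithBot ℕ∞) ≤ ringKrullDim (Y.presheaf.stalk (f x)) →
        (n : WithBot ℕ∞) ≤ ringKrullDim (X.presheaf.stalk x) := by
      intro x n
      induction n generalizing x with
      | zero => intro _; exact ringKrullDim_nonneg_of_nontrivial
      | succ n ih =>
        intro hn
        rw [ringKrullDim_stalk_eq_coheight] at hn
        have hc : ((n + 1 : ℕ) : ℕ∞) ≤ Order.coheight (f x) := by exact_mod_cast hn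
        obtain ⟨l, hl, hlen⟩ := Order.exists_series_of_le_coheight _ hc
        have h01 : (f x : Y) < l ⟨1, by omega⟩ := hl ▸ l.strictMono (by simp [Fin.lt_def])
        obtain ⟨x', hx', hfx'⟩ := goingDown f hY (show l ⟨1, by omega⟩ ⤳ f x from h01.le)
        have hne : x' ≠ x := fun h => h01.ne (by rw [← hfx', h])
        have hc' : (n : ℕ∞) ≤ Order.coheight (l ⟨1, by omega⟩) :=
          (show (n : ℕ∞) ≤ ((l.drop ⟨1, by omega⟩).length : ℕ) by simp [hlen]).trans
            (Order.length_le_coheight (x := l ⟨1, by omega⟩) (p := l.drop ⟨1, by omega⟩) (by simp))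
        have ihx := ih x' (by rw [ringKrullDim_stalk_eq_coheight, hfx']; exact_mod_cast hc')
        have hlt := FibDim.ringKrullDim_stalk_lt hx' hne
        have := lt_of_le_of_lt ihx hlt
        rw [DimFormula.ringKrullDim_stalk] at this ⊢
        exact_mod_cast (show n + 1 ≤ _ from (by exact_mod_cast this))
    exact key x 2 h2.ge
  · refine Flat.of_stalkMap _ fun z => ?_
    have hz : (f.stalkMap z.1).hom.Flat := by
      by_contra hn
      exact z.2 ⟨z.1, hn, rfl⟩
    exact ((RingHom.Flat.respectsIso).arrow_mk_iso_iff (morphismRestrictStalkMap f V z)).2 hz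

end Groth.Agent.FiniteNormal
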