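import Groth.Agent.NQF.Fibres
import Groth.Agent.S18485
import Groth.Agent.GrpSchLib.HomKer
import Mathlib.AlgebraicGeometry.ZariskisMainTheorem

/-!
# Isogenies between smooth groups over a Dedekind domain: quasi-finite iff flat
-/

set_option autoImplicit false

universe u

open CategoryTheory Limits AlgebraicGeometry MonoidalCategory CartesianMonoidalCategory MonObj
  TopologicalSpace
open scoped CategoryTheory.Obj

namespace Groth.Agent.NQF

open GrpSchLib GrpSchLib.HomFibre GrpSchLib.Loci GrpSchLib.Saturate

theorem isKernel_bc' {S S' : Scheme.{u}} (r : S' ⟶ S) {A B N : Over S} [GrpObj B] {i : N ⟶ A} {φ : A ⟶ B}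
    (hN : AlgGrp.IsKernel i φ) :
    AlgGrp.IsKernel ((Over.pullback r).map i : Red.bc r N ⟶ Red.bc r A)
      ((Over.pullback r).map φ : Red.bc r A ⟶ Red.bc r B) := by
  haveI : PreservesLimitsOfSize.{0, 0} (Over.pullback r) := (Over.mapPullbackAdj r).rightAdjoint_preservesLimits
  have h := hN.map (Over.pullback r)
  refine h.of_iso (Iso.refl _) (Iso.refl _) (Functor.Monoidal.εIso (Over.pullback r)).symm (Iso.refl _) ?_ ?_ ?_ ?_
  · simp
  · exact toUnit_unique _ _
  · simp
  · show (Over.pullback r).map η[B] ≫ 𝟙 _ = _ ≫ η[Red.bc r B]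
    rw [Category.comp_id, Functor.obj.η_def]
    simp

theorem dim_eq_of_lqf_surjective {k : Type u} [Field k] {G H : Over (Spec (CommRingCat.of k))} [GrpObj G] [GrpObj H]
    [LocallyOfFiniteType G.hom] [LocallyOfFiniteType H.hom] (u : G ⟶ H) [LocallyQuasiFinite u.left]
    [Surjective u.left] : topologicalKrullDim G.left = topologicalKrullDim H.left := by
  haveI : LocallyOfFiniteType (u.left ≫ H.hom) := by rw [Over.w u]; infer_instance
  haveI : LocallyOfFiniteType u.left := locallyOfFiniteType_of_comp u.left H.hom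
  have hdeg : ∀ g, VarDim.deg H.hom (u.left g) = VarDim.deg G.hom g := fun g => by
    have h1 := VarDim.fdeg_eq_rdeg u.left H.hom g
    rw [← FibDim.rd_eq_rdeg u.left g, FibDim.rd_eq_zero_of_quasiFinite u.left g] at h1
    have h0 : VarDim.fdeg u.left g = 0 := by exact_mod_cast h1
    rw [VarDim.deg_eq_add u.left H.hom (Over.w u) g, h0, add_zero]
  rw [VarDim.topologicalKrullDim_eq_iSup_deg G.hom, VarDim.topologicalKrullDim_eq_iSup_deg H.hom]
  refine le_antisymm (iSup_le fun g => ?_) (iSup_le fun y => ?_)
  · exact le_iSup_of_le (u.left g) (by rw [hdeg g])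
  · obtain ⟨g, rfl⟩ := u.left.surjective y
    exact le_iSup_of_le g (by rw [hdeg g])

variable (R : Type u) [CommRing R] [IsDedekindDomain R] (A B : Over (Spec (CommRingCat.of R))) [GrpObj A] [GrpObj B]
  [Smooth A.hom] [QuasiCompact A.hom] [Smooth B.hom] [IsSeparated B.hom]
  (φ : A ⟶ B) [IsMonHom φ]

theorem dim_fibres_eq (hφ : SGA7.IsIsogenyOver ((Neron.genericFibre R).map φ)) (s : Spec (CommRingCat.of R)) :
    topologicalKrullDim ((Over.pullback ((Spec (CommRingCat.of R)).fromSpecResidueField s)).obj A).left =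
      topologicalKrullDim ((Over.pullback ((Spec (CommRingCat.of R)).fromSpecResidueField s)).obj B).left := by
  have hA : ∀ (G : Over (Spec (CommRingCat.of R))) (t : Spec (CommRingCat.of R)),
      topologicalKrullDim ((Over.pullback ((Spec (CommRingCat.of R)).fromSpecResidueField t)).obj G).left =
        topologicalKrullDim ↥(G.hom ⁻¹' {t}) := fun G t =>
    IsHomeomorph.topologicalKrullDim_eq _ (G.hom.fiberHomeo t).isHomeomorph
  let η₀ : Spec (CommRingCat.of R) := (⟨⊥, Ideal.isPrime_bot⟩ : PrimeSpectrum R)
  haveI : IrreducibleSpace ↥(Spec (CommRingCat.of R)) :=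
    inferInstanceAs (IrreducibleSpace (PrimeSpectrum R))
  rw [hA, hA, (GrpSchLib.FibreDimGrp.isLocallyConstant A).apply_eq_of_preconnectedSpace s η₀,
    (GrpSchLib.FibreDimGrp.isLocallyConstant B).apply_eq_of_preconnectedSpace s η₀, ← hA, ← hA]
  obtain ⟨e, he⟩ := exists_fac R η₀ rfl
  let σ := (Spec (CommRingCat.of R)).fromSpecResidueField η₀
  let j := Neron.genPt R
  haveI : LocallyOfFiniteType (Red.bc j A).hom := inferInstanceAs (LocallyOfFiniteType (pullback.snd A.hom j))
  haveI : QuasiCompact (Red.bc j A).hom := inferInstanceAs (QuasiCompact (pullback.snd A.hom j))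
  haveI : LocallyOfFiniteType (Red.bc j B).hom := inferInstanceAs (LocallyOfFiniteType (pullback.snd B.hom j))
  haveI : IsSeparated (Red.bc j B).hom := inferInstanceAs (IsSeparated (pullback.snd B.hom j))
  let φK : Red.bc j A ⟶ Red.bc j B := (Over.pullback j).map φ
  haveI : IsMonHom φK := inferInstanceAs (IsMonHom ((Over.pullback j).map φ))
  haveI : IsFinite φK.left := isFinite_of_isogeny φK hφ
  have sq := map_isPullback' φ j e σ he
  haveI : LocallyQuasiFinite (fib φ η₀).left :=
    MorphismProperty.of_isPullback (P := @LocallyQuasiFinite) sq (inferInstanceAs (LocallyQuasiFinite φK.left))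
  haveI : Surjective (fib φ η₀).left := MorphismProperty.of_isPullback (P := @Surjective) sq hφ.1
  haveI : LocallyOfFiniteType ((Over.pullback σ).obj A).hom := inferInstanceAs (LocallyOfFiniteType (pullback.snd A.hom σ))
  haveI : LocallyOfFiniteType ((Over.pullback σ).obj B).hom := inferInstanceAs (LocallyOfFiniteType (pullback.snd B.hom σ))
  exact dim_eq_of_lqf_surjective (k := (Spec (CommRingCat.of R)).residueField η₀) (fib φ η₀)

theorem lqf_iff_flat (hφ : SGA7.IsIsogenyOver ((Neron.genericFibre R).map φ)) :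
    LocallyQuasiFinite φ.left ↔ Flat φ.left := by
  haveI : LocallyOfFiniteType (φ.left ≫ B.hom) := by rw [Over.w φ]; infer_instance
  haveI : LocallyOfFiniteType φ.left := locallyOfFiniteType_of_comp φ.left B.hom
  haveI : LocallyOfFinitePresentation φ.left := HomFibre.lfp_of_flat_lfp φ
  constructor
  · intro hqf
    refine Flat.of_stalkMap _ fun x => ?_
    obtain ⟨z, hz⟩ := exists_incl x
    rw [← hz]
    refine (HomFibre.mem_loc_FL_iff φ.left _).mp ((HomFibre.flat_iff φ _ z).mp ?_)
    generalize A.hom x = s at z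
    let σ := (Spec (CommRingCat.of R)).fromSpecResidueField s
    haveI : LocallyQuasiFinite (fib φ s).left :=
      MorphismProperty.of_isPullback (P := @LocallyQuasiFinite) (map_isPullback φ σ) hqf
    haveI : LocallyOfFiniteType ((Over.pullback σ).obj A).hom := inferInstanceAs (LocallyOfFiniteType (pullback.snd A.hom σ))
    haveI : LocallyOfFiniteType ((Over.pullback σ).obj B).hom := inferInstanceAs (LocallyOfFiniteType (pullback.snd B.hom σ))
    haveI : Smooth ((Over.pullback σ).obj B).hom := inferInstanceAs (Smooth (pullback.snd B.hom σ))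
    haveI : IsReduced ((Over.pullback σ).obj B).left :=
      isReduced_of_smooth_field (K := (Spec (CommRingCat.of R)).residueField s) ((Over.pullback σ).obj B).hom
    haveI := flat_of_lqf (k := (Spec (CommRingCat.of R)).residueField s) (dim_fibres_eq R A B φ hφ s) (fib φ s)
    haveI := HomFibre.fib_lfp φ σ
    rw [HomFibre.mem_loc_FL_iff]
    exact Flat.stalkMap _ z
  · intro hfl
    let N := Limits.pullback φ η[B]
    let i : N ⟶ A := pullback.fst φ η[B]
    have sq : IsPullback i (pullback.snd φ η[B]) φ η[B] := IsPullback.of_hasPullback φ η[B]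
    have hker : AlgGrp.IsKernel i φ := by
      have e : pullback.snd φ η[B] = toUnit N := toUnit_unique _ _
      rw [e] at sq
      exact sq
    have sqN : IsPullback i.left N.hom φ.left η[B].left := HomKer.kernel_square (u := φ) i hker
    haveI : Flat N.hom := MorphismProperty.of_isPullback (P := @Flat) sqN hfl
    haveI : LocallyOfFiniteType N.hom := MorphismProperty.of_isPullback (P := @LocallyOfFiniteType) sqN inferInstance
    haveI : IsFinite ((Neron.genericFibre R).obj N).hom := hφ.2 _ _ (isKernel_bc' _ hker)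
    haveI : LocallyQuasiFinite N.hom := Groth.Agent.S18485.result R N
    have hunit : ∀ s, η[A].left s ∈ loc LQ.{u} φ.left := by
      intro s
      obtain ⟨w₀, hw₀, -⟩ := Scheme.Pullback.exists_preimage_pullback (f := φ.left) (g := η[B].left) (η[A].left s) s (by
        rw [← Scheme.Hom.comp_apply, ← Over.comp_left, IsMonHom.one_hom φ])
      obtain ⟨w, hw⟩ : ∃ w, i.left w = η[A].left s := ⟨sqN.isoPullback.inv w₀, by
        rw [← Scheme.Hom.comp_apply, sqN.isoPullback_inv_fst, hw₀]⟩
      rw [HomFibre.mem_loc_LQ_iff, ← hw]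
      exact (Set.ext_iff.mp (Groth.Agent.S9389.result φ.left _ _ _ sqN) w).mp (N.hom.quasiFiniteAt w)
    rw [← Scheme.Hom.quasiFiniteLocus_eq_top_iff, eq_top_iff]
    intro x _
    have := HomKer.all_of_unit φ compat_LQ (fun s z => HomFibre.lqf_iff φ s z)
      (fun s => inferInstance) hunit x
    exact (HomFibre.mem_loc_LQ_iff φ.left x).mp this

end Groth.Agent.NQF
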